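import Groth.Agent.Lib.EGA2.ProjMap
import Mathlib.Algebra.Category.Ring.Constructions
import Mathlib.RingTheory.GradedAlgebra.RingHom
import Mathlib.RingTheory.IsTensorProduct

/-!
`Proj` commutes with base change.
-/

set_option autoImplicit false

open CategoryTheory CategoryTheory.Limits AlgebraicGeometry HomogeneousLocalization TensorProduct

universe u

namespace Groth.Agent.EGA2

variable {R R' A B : Type u} [CommRing R'] [CommRing R] [Algebra R' R]
  [CommRing B] [Algebra R' B] (ℬ : ℕ → Submodule R' B) [GradedAlgebra ℬ]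
  [CommRing A] [Algebra R A] [Algebra R' A] [IsScalarTower R' R A]
  (𝒜 : ℕ → Submodule R A) [GradedAlgebra 𝒜] [Algebra B A] [IsScalarTower R' B A]

theorem away_val_fromZero {S T : Type u} [CommRing S] [CommRing T] [Algebra S T]
    (𝒯 : ℕ → Submodule S T) [GradedAlgebra 𝒯] (f : T) (r : S) :
    (fromZeroRingHom 𝒯 (Submonoid.powers f) (algebraMap S (𝒯 0) r)).val =
      algebraMap T (Localization.Away f) (algebraMap S T r) := by
  rw [← Localization.mk_one_eq_algebraMap]
  rfl

theorem away_val_mk_mul {S T : Type u} [CommRing S] [CommRing T] [Algebra S T]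
    (𝒯 : ℕ → Submodule S T) [GradedAlgebra 𝒯] {d : ℕ} {f : T} (hf : f ∈ 𝒯 d) {m : ℕ} {a : T}
    (ha : a ∈ 𝒯 (m • d)) :
    (Away.mk 𝒯 hf m a ha).val * algebraMap T (Localization.Away f) (f ^ m) =
      algebraMap T (Localization.Away f) a := by
  rw [Away.val_mk, Localization.mk_eq_mk']
  exact IsLocalization.mk'_spec (M := Submonoid.powers f) (Localization.Away f) a ⟨f ^ m, m, rfl⟩

/-- The `S`-algebra structure on a degree-zero localisation, compatible with its scalar action. -/
@[reducible] noncomputable def awayAlgebra {S T : Type u} [CommRing S] [CommRing T] [Algebra S T]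
    (𝒯 : ℕ → Submodule S T) [GradedAlgebra 𝒯] (f : T) : Algebra S (Away 𝒯 f) where
  algebraMap := (fromZeroRingHom 𝒯 (Submonoid.powers f)).comp (algebraMap S (𝒯 0))
  commutes' := fun _ _ => mul_comm _ _
  smul_def' := fun r y => by
    apply val_injective
    rw [val_smul, val_mul, RingHom.comp_apply, away_val_fromZero, Algebra.smul_def,
      IsScalarTower.algebraMap_apply S T (Localization.Away f)]

/-- The algebraic content of base change of `Proj`: degree-zero localisations commute with base change. -/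
theorem isPushout_away [Algebra.IsPushout R' R B A] (φ : ℬ →+*ᵍ 𝒜) (hφA : ∀ b : B, φ b = algebraMap B A b)
    {d : ℕ} {f : B} (hf : f ∈ ℬ d) :
    IsPushout (CommRingCat.ofHom (algebraMap R' R))
      (CommRingCat.ofHom ((fromZeroRingHom ℬ (Submonoid.powers f)).comp (algebraMap R' (ℬ 0))))
      (CommRingCat.ofHom ((fromZeroRingHom 𝒜 (Submonoid.powers (φ f))).comp (algebraMap R (𝒜 0))))
      (CommRingCat.ofHom (Away.map φ f)) := by
  classical
  letI aW : Algebra R' (Away ℬ f) := awayAlgebra ℬ f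
  letI aS : Algebra R (Away 𝒜 (φ f)) := awayAlgebra 𝒜 (φ f)
  letI aM : Algebra (Away ℬ f) (Away 𝒜 (φ f)) := (Away.map φ f).toAlgebra
  letI aC : Algebra R' (Away 𝒜 (φ f)) :=
    ((algebraMap R (Away 𝒜 (φ f))).comp (algebraMap R' R)).toAlgebra
  haveI : IsScalarTower R' R (Away 𝒜 (φ f)) :=
    @IsScalarTower.of_algebraMap_eq R' R _ _ _ _ _ aS aC (fun _ => rfl)
  have hφR : ∀ r : R', φ (algebraMap R' B r) = algebraMap R A (algebraMap R' R r) := fun r => by
    rw [hφA, ← IsScalarTower.algebraMap_apply, ← IsScalarTower.algebraMap_apply]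
  have hval_map : ∀ {m : ℕ} {b : B} (hb : b ∈ ℬ (m • d)),
      Away.map φ f (Away.mk ℬ hf m b hb) = Away.mk 𝒜 (φ.2 hf) m (φ b) (φ.2 hb) :=
    fun hb => Away.map_mk _ _ _ _ _ _
  haveI : IsScalarTower R' (Away ℬ f) (Away 𝒜 (φ f)) :=
    @IsScalarTower.of_algebraMap_eq R' (Away ℬ f) _ _ _ _ aW aM aC fun r => by
    show fromZeroRingHom 𝒜 _ (algebraMap R (𝒜 0) (algebraMap R' R r)) =
      Away.map φ f (fromZeroRingHom ℬ _ (algebraMap R' (ℬ 0) r))
    have hb : algebraMap R' B r ∈ ℬ (0 • d) := by rw [zero_smul]; exact (algebraMap R' (ℬ 0) r).2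
    have e : fromZeroRingHom ℬ (Submonoid.powers f) (algebraMap R' (ℬ 0) r) = Away.mk ℬ hf 0 _ hb := by
      apply val_injective
      rw [away_val_fromZero, ← away_val_mk_mul ℬ hf hb, pow_zero, map_one, mul_one]
    rw [e, hval_map hb]
    apply val_injective
    have := away_val_mk_mul 𝒜 (φ.2 hf) (φ.2 hb)
    rw [pow_zero, map_one, mul_one] at this
    rw [away_val_fromZero]
    exact (congrArg _ (hφR r).symm).trans this.symm
  refine CommRingCat.isPushout_iff_isPushout.2 ?_
  constructor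
  -- the graded pieces
  let mkW : ∀ m : ℕ, ℬ (m • d) →ₗ[R'] Away ℬ f := fun m =>
    { toFun := fun b => Away.mk ℬ hf m b.1 b.2
      map_add' := fun a b => by
        apply val_injective
        simp only [val_add, Away.val_mk, Submodule.coe_add, Localization.mk_eq_mk',
          IsLocalization.mk'_eq_mul_mk'_one (a.1 + b.1), IsLocalization.mk'_eq_mul_mk'_one a.1,
          IsLocalization.mk'_eq_mul_mk'_one b.1, map_add, add_mul]
      map_smul' := fun r a => by
        apply val_injective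
        show _ = (r • Away.mk ℬ hf m a.1 a.2).val
        rw [val_smul, Away.val_mk, Away.val_mk, Localization.smul_mk]
        rfl }
  let incl : ∀ k : ℕ, R ⊗[R'] ℬ k →ₗ[R'] A := fun k =>
    (Algebra.IsPushout.equiv R' R B A).toLinearMap.restrictScalars R' ∘ₗ (ℬ k).subtype.lTensor R
  have incl_tmul : ∀ k (r : R) (b : ℬ k), incl k (r ⊗ₜ b) = algebraMap R A r * φ b.1 := fun k r b => by
    show Algebra.IsPushout.equiv R' R B A (r ⊗ₜ b.1) = _
    rw [Algebra.IsPushout.equiv_tmul, hφA]
  have incl_mem : ∀ k t, incl k t ∈ 𝒜 k := fun k t => by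
    induction t using TensorProduct.induction_on with
    | zero => rw [map_zero]; exact zero_mem _
    | add a b ha hb => rw [map_add]; exact add_mem ha hb
    | tmul r b =>
      rw [incl_tmul, ← Algebra.smul_def]
      exact Submodule.smul_mem _ _ (φ.2 b.2)
  let proj : ∀ k : ℕ, B →ₗ[R'] ℬ k := fun k =>
    (DirectSum.component R' ℕ (fun i => ℬ i) k).comp (DirectSum.decomposeLinearEquiv ℬ).toLinearMap
  have incl_inj : ∀ k, Function.Injective (incl k) := fun k => by
    refine (Algebra.IsPushout.equiv R' R B A).injective.comp ?_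
    refine Function.LeftInverse.injective (g := (proj k).lTensor R) fun t => ?_
    rw [← LinearMap.lTensor_comp_apply]
    have : (proj k).comp (ℬ k).subtype = LinearMap.id :=
      LinearMap.ext fun b => Subtype.ext (DirectSum.decompose_of_mem_same ℬ b.2)
    rw [this, LinearMap.lTensor_id, LinearMap.id_apply]
  -- multiplication by powers of f
  let mulF : ∀ m k : ℕ, ℬ (m • d) →ₗ[R'] ℬ ((m + k) • d) := fun m k =>
    ((LinearMap.mulLeft R' (f ^ k)).comp (ℬ (m • d)).subtype).codRestrict _ fun b => by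
      rw [add_smul, add_comm]
      exact SetLike.mul_mem_graded (SetLike.pow_mem_graded k hf) b.2
  have mkW_mulF : ∀ m k, (mkW (m + k)).comp (mulF m k) = mkW m := fun m k =>
    LinearMap.ext fun b => (away_mk_eq_iff ℬ hf).2 ⟨0, by
      show f ^ 0 * (f ^ m * (f ^ k * b.1)) = f ^ 0 * (f ^ (m + k) * b.1)
      rw [pow_add, mul_assoc]⟩
  have hψ : ∀ z : R ⊗[R'] Away ℬ f, ∃ (m : ℕ) (t : R ⊗[R'] ℬ (m • d)), (mkW m).lTensor R t = z := by
    intro z
    induction z using TensorProduct.induction_on with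
    | zero => exact ⟨0, 0, map_zero _⟩
    | tmul r w =>
      obtain ⟨m, b, hb, rfl⟩ := Away.mk_surjective ℬ hf w
      exact ⟨m, r ⊗ₜ ⟨b, hb⟩, rfl⟩
    | add a b ha hb =>
      obtain ⟨m, s, rfl⟩ := ha
      obtain ⟨k, t, rfl⟩ := hb
      have e : ∀ (j l : ℕ) (x : R ⊗[R'] ℬ (j • d)),
          (mkW j).lTensor R x = (mkW (j + l)).lTensor R ((mulF j l).lTensor R x) := fun j l x => by
        rw [← LinearMap.lTensor_comp_apply, mkW_mulF]
      refine ⟨m + k, (mulF m k).lTensor R s +
        (Nat.add_comm k m ▸ (mulF k m).lTensor R t), ?_⟩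
      rw [map_add, ← e]
      congr 1
      have : ∀ (j l : ℕ) (h : j = l) (x : R ⊗[R'] ℬ (j • d)),
          (mkW l).lTensor R (h ▸ x) = (mkW j).lTensor R x := by rintro j l rfl x; rfl
      rw [this, ← e]
  let μ : R ⊗[R'] Away ℬ f →ₐ[R] Away 𝒜 (φ f) :=
    Algebra.TensorProduct.lift (Algebra.ofId R _) (IsScalarTower.toAlgHom R' _ _) fun _ _ => .all _ _
  have μψ : ∀ m (t : R ⊗[R'] ℬ (m • d)),
      μ ((mkW m).lTensor R t) = Away.mk 𝒜 (φ.2 hf) m (incl _ t) (incl_mem _ t) := by
    intro m t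
    apply val_injective
    refine ((IsLocalization.map_units (Localization.Away (φ f))
      (⟨φ f ^ m, m, rfl⟩ : Submonoid.powers (φ f))).mul_left_injective ?_)
    show (μ ((mkW m).lTensor R t)).val * algebraMap A _ (φ f ^ m) = _ * algebraMap A _ (φ f ^ m)
    refine Eq.trans ?_ (away_val_mk_mul 𝒜 (φ.2 hf) (incl_mem _ t)).symm
    induction t using TensorProduct.induction_on with
    | zero => rw [map_zero, map_zero, val_zero, zero_mul, map_zero, map_zero]
    | add a b ha hb => rw [map_add, map_add, val_add, add_mul, ha, hb, map_add, map_add]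
    | tmul r b =>
      rw [LinearMap.lTensor_tmul, Algebra.TensorProduct.lift_tmul, val_mul, incl_tmul, map_mul, mul_assoc]
      congr 1
      show (Away.map φ f (Away.mk ℬ hf m b.1 b.2)).val * _ = _
      rw [hval_map b.2]
      exact away_val_mk_mul 𝒜 (φ.2 hf) (φ.2 b.2)
  have hbij : Function.Bijective μ := by
    constructor
    · rw [injective_iff_map_eq_zero]
      intro z hz
      obtain ⟨m, t, rfl⟩ := hψ z
      rw [μψ] at hz
      obtain ⟨k, hk⟩ := (away_mk_eq_zero_iff 𝒜 (φ.2 hf)).1 hz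
      have h0 : incl _ ((mulF m k).lTensor R t) = φ f ^ k * incl _ t := by
        clear hz hk
        induction t using TensorProduct.induction_on with
        | zero => rw [map_zero, map_zero, map_zero, mul_zero]
        | add a b ha hb => rw [map_add, map_add, map_add, mul_add, ha, hb]
        | tmul r b =>
          rw [LinearMap.lTensor_tmul, incl_tmul, incl_tmul]
          show _ * φ (f ^ k * b.1) = _
          rw [map_mul, map_pow]
          exact mul_left_comm _ _ _
      have hz' : (mulF m k).lTensor R t = 0 := incl_inj _ ((h0.trans hk).trans (map_zero _).symm)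
      rw [← mkW_mulF m k, LinearMap.lTensor_comp_apply, hz', map_zero]
    · intro x
      obtain ⟨m, a, ha, rfl⟩ := Away.mk_surjective 𝒜 (φ.2 hf) x
      obtain ⟨t, rfl⟩ := (Algebra.IsPushout.equiv R' R B A).surjective a
      refine ⟨(mkW m).lTensor R ((proj _).lTensor R t), ?_⟩
      rw [μψ]
      have key : ∀ (k : ℕ) (t : R ⊗[R'] B), incl k ((proj k).lTensor R t) =
          DirectSum.decompose 𝒜 (Algebra.IsPushout.equiv R' R B A t) k := by
        intro k t
        induction t using TensorProduct.induction_on with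
        | zero => simp
        | add a b ha hb =>
          simp only [map_add, ha, hb, DirectSum.decompose_add]
          rfl
        | tmul r b =>
          rw [LinearMap.lTensor_tmul, incl_tmul, Algebra.IsPushout.equiv_tmul, ← hφA,
            ← Algebra.smul_def, ← Algebra.smul_def, DirectSum.decompose_smul, DFinsupp.smul_apply,
            Submodule.coe_smul]
          congr 1
          show φ (DirectSum.decompose ℬ b k : B) = _
          exact φ.map_directSumDecompose
      congr 1
      rw [key, DirectSum.decompose_of_mem_same 𝒜 ha]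
  refine IsBaseChange.of_equiv (AlgEquiv.ofBijective μ hbij).toLinearEquiv fun x => ?_
  show μ (1 ⊗ₜ x) = algebraMap _ _ x
  rw [Algebra.TensorProduct.lift_tmul, map_one, one_mul]
  rfl

/-- A commutative square is cartesian if it is so over the charts of a cover. -/
theorem isPullback_of_charts {X Y S T : Scheme.{u}} (m : X ⟶ Y) (g : X ⟶ T) (p : Y ⟶ S) (q : T ⟶ S)
    (w : m ≫ p = g ≫ q) {ι : Type u} (V : ι → Scheme.{u}) (v : ∀ i, V i ⟶ Y) [∀ i, IsOpenImmersion (v i)]
    (hcov : ∀ y : Y, ∃ i, y ∈ (v i).opensRange) (U : ι → Scheme.{u}) (a : ∀ i, U i ⟶ V i)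
    (b : ∀ i, U i ⟶ X) (h1' : ∀ i, IsPullback (a i) (b i) (v i) m)
    (h2' : ∀ i, IsPullback (a i) (b i ≫ g) (v i ≫ p) q) : IsPullback m g p q := by
  let 𝒰 : Scheme.OpenCover.{u} Y := Scheme.Cover.mkOfCovers ι V v (fun y => by
    obtain ⟨i, hi⟩ := hcov y
    exact ⟨i, hi⟩)
  have h1 : ∀ i : 𝒰.I₀, IsPullback (a i) (b i) (𝒰.f i) m := h1'
  have h2 : ∀ i : 𝒰.I₀, IsPullback (a i) (b i ≫ g) (𝒰.f i ≫ p) q := h2'
  let j := pullback.lift m g w
  suffices IsIso j from
    IsPullback.of_iso_pullback ⟨w⟩ (asIso j) (pullback.lift_fst _ _ _) (pullback.lift_snd _ _ _)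
  refine IsZariskiLocalAtTarget.of_openCover (P := MorphismProperty.isomorphisms Scheme)
    (Scheme.Pullback.openCoverOfLeft 𝒰 p q) fun (i : 𝒰.I₀) => ?_
  let e := pullback.lift (f := 𝒰.f i ≫ p) (g := q) (a i) (b i ≫ g) (h2 i).w
  have he : e = (h2 i).isoPullback.hom := pullback.hom_ext
    ((pullback.lift_fst _ _ _).trans (h2 i).isoPullback_hom_fst.symm)
    ((pullback.lift_snd _ _ _).trans (h2 i).isoPullback_hom_snd.symm)
  let c := pullback.map (𝒰.f i ≫ p) q p q (𝒰.f i) (𝟙 _) (𝟙 _) (by simp) (by simp)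
  have hright : IsPullback (pullback.fst (𝒰.f i ≫ p) q) c (𝒰.f i) (pullback.fst p q) := by
    refine (IsPullback.of_right (h₁₂ := pullback.snd p q) (v₁₃ := q) (h₂₂ := p) ?_
      (pullback.lift_fst _ _ _) (IsPullback.of_hasPullback p q).flip).flip
    rw [show c ≫ pullback.snd p q = pullback.snd _ _ from (pullback.lift_snd _ _ _).trans (Category.comp_id _)]
    exact (IsPullback.of_hasPullback _ _).flip
  have hleft : IsPullback e (b i) c j := by
    refine IsPullback.of_right ?_ ?_ hright
    · rw [show e ≫ pullback.fst _ _ = a i from pullback.lift_fst _ _ _,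
        show j ≫ pullback.fst p q = m from pullback.lift_fst _ _ _]
      exact h1 i
    · apply pullback.hom_ext
      · rw [Category.assoc, Category.assoc,
          show c ≫ pullback.fst p q = pullback.fst _ _ ≫ 𝒰.f i from pullback.lift_fst _ _ _,
          ← Category.assoc, show e ≫ pullback.fst _ _ = a i from pullback.lift_fst _ _ _,
          show j ≫ pullback.fst p q = m from pullback.lift_fst _ _ _]
        exact (h1 i).w
      · rw [Category.assoc, Category.assoc,
          show c ≫ pullback.snd p q = pullback.snd _ _ from (pullback.lift_snd _ _ _).trans (Category.comp_id _)]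
        exact (pullback.lift_snd _ _ _).trans (congrArg (b i ≫ ·) (pullback.lift_snd _ _ _).symm)
  show IsIso (pullback.snd j c)
  rw [(Iso.eq_inv_comp _).2 hleft.flip.isoPullback_hom_snd]
  have : IsIso e := he ▸ Iso.isIso_hom _
  infer_instance

/-- `Proj` commutes with base change. -/
theorem isPullback_proj [Algebra.IsPushout R' R B A] (φ : ℬ →+*ᵍ 𝒜) (hφA : ∀ b : B, φ b = algebraMap B A b)
    (hφ : HomogeneousIdeal.irrelevant 𝒜 ≤ (HomogeneousIdeal.irrelevant ℬ).map φ) :
    IsPullback (Proj.map φ hφ)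
      (Proj.toSpecZero 𝒜 ≫ Spec.map (CommRingCat.ofHom (algebraMap R (𝒜 0))))
      (Proj.toSpecZero ℬ ≫ Spec.map (CommRingCat.ofHom (algebraMap R' (ℬ 0))))
      (Spec.map (CommRingCat.ofHom (algebraMap R' R))) := by
  let g := Proj.toSpecZero 𝒜 ≫ Spec.map (CommRingCat.ofHom (algebraMap R (𝒜 0)))
  let p := Proj.toSpecZero ℬ ≫ Spec.map (CommRingCat.ofHom (algebraMap R' (ℬ 0)))
  have hchart : ∀ (d : ℕ) (hd : 0 < d) (f : B) (hf : f ∈ ℬ d),
      IsPullback (Spec.map (CommRingCat.ofHom (Away.map φ f))) (Proj.awayι 𝒜 (φ f) (φ.2 hf) hd ≫ g)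
        (Proj.awayι ℬ f hf hd ≫ p) (Spec.map (CommRingCat.ofHom (algebraMap R' R))) := by
    intro d hd f hf
    have h := (isPullback_SpecMap_of_isPushout _ _ _ _ (isPushout_away ℬ 𝒜 φ hφA hf)).flip
    simp only [g, p, Proj.awayι_toSpecZero_assoc, ← Spec.map_comp, ← CommRingCat.ofHom_comp]
    exact h
  have hw : Proj.map φ hφ ≫ p = g ≫ Spec.map (CommRingCat.ofHom (algebraMap R' R)) := by
    refine (Proj.mapAffineOpenCover φ hφ).openCover.hom_ext _ _ fun i => ?_
    obtain ⟨⟨d, hd⟩, f, hf⟩ := i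
    show Proj.awayι 𝒜 (φ f) (φ.2 hf) hd ≫ _ = Proj.awayι 𝒜 (φ f) (φ.2 hf) hd ≫ _
    rw [← Category.assoc (Proj.awayι 𝒜 (φ f) (φ.2 hf) hd), ← Category.assoc (Proj.awayι 𝒜 (φ f) (φ.2 hf) hd)]
    exact ((congrArg (· ≫ p) (Proj.awayι_comp_map φ hφ hd f hf)).trans (Category.assoc _ _ _)).trans
      (hchart d hd f hf).w
  let ι : Type u := {f : B // ∃ k : ℕ, 0 < k ∧ f ∈ ℬ k}
  choose dd hdd hmem using fun i : ι => i.2
  refine isPullback_of_charts (Proj.map φ hφ) g p _ hw (ι := ι)
    (fun i => Spec (CommRingCat.of (Away ℬ i.1))) (fun i => Proj.awayι ℬ i.1 (hmem i) (hdd i)) ?_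
    (fun i => Spec (CommRingCat.of (Away 𝒜 (φ i.1))))
    (fun i => Spec.map (CommRingCat.ofHom (Away.map φ i.1)))
    (fun i => Proj.awayι 𝒜 (φ i.1) (φ.2 (hmem i)) (hdd i))
    (fun i => IsOpenImmersion.isPullback _ _ _ _ (Proj.awayι_comp_map φ hφ (hdd i) i.1 (hmem i))
      (by rw [Proj.opensRange_awayι, Proj.opensRange_awayι, Proj.map_preimage_basicOpen]))
    (fun i => hchart _ (hdd i) _ (hmem i))
  intro y
  have hy : y ∈ (⨆ f : ι, Proj.basicOpen ℬ f.1) := by
    rw [iSup_basicOpen_pos ℬ]; trivial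
  obtain ⟨i, hy⟩ := TopologicalSpace.Opens.mem_iSup.1 hy
  exact ⟨i, by rw [Proj.opensRange_awayι]; exact hy⟩

end Groth.Agent.EGA2
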