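import Mathlib.RingTheory.GradedAlgebra.FiniteType
import Mathlib.RingTheory.GradedAlgebra.Noetherian
import Mathlib.RingTheory.GradedAlgebra.Radical
import Mathlib.RingTheory.GradedAlgebra.Homogeneous.Ideal
import Mathlib.RingTheory.IntegralClosure.IsIntegralClosure.Basic
import Mathlib.RingTheory.Nilpotent.Lemmas
import Mathlib.RingTheory.FiniteType
import Mathlib.Algebra.Module.GradedModule

/-!
Basic facts on ℕ-graded algebras: generators of the irrelevant ideal, eventual periodicity.
-/

set_option autoImplicit false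

open DirectSum SetLike Pointwise

universe u

namespace Groth.Agent.EGA2

variable {R A : Type u} [CommRing R] [CommRing A] [Algebra R A]
  (𝒜 : ℕ → Submodule R A) [GradedAlgebra 𝒜]

local notation "S₊" => HomogeneousIdeal.toIdeal (HomogeneousIdeal.irrelevant 𝒜)

theorem mem_irr_iff {x : A} : x ∈ S₊ ↔ (decompose 𝒜 x 0 : A) = 0 :=
  HomogeneousIdeal.mem_irrelevant_iff 𝒜 x

theorem mem_irr_of_mem {d : ℕ} (hd : 0 < d) {x : A} (hx : x ∈ 𝒜 d) : x ∈ S₊ :=
  (mem_irr_iff 𝒜).2 (decompose_of_mem_ne 𝒜 hx hd.ne')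

theorem decompose_mem_irr {x : A} (hx : x ∈ S₊) (n : ℕ) : (decompose 𝒜 x n : A) ∈ S₊ :=
  (HomogeneousIdeal.irrelevant 𝒜).isHomogeneous n hx

theorem decompose_mul_decompose_zero (x : A) {n : ℕ} (hn : 0 < n) :
    (decompose 𝒜 x n : A) ∈ S₊ :=
  mem_irr_of_mem 𝒜 hn (decompose 𝒜 x n).2

/-- The `(𝒜 0)`-subalgebra generated by a homogeneous generating set of the irrelevant ideal is everything. -/
theorem adjoin_eq_top_of_span_eq {E : Set A} (hE : ∀ e ∈ E, ∃ d : ℕ, 0 < d ∧ e ∈ 𝒜 d)
    (h : S₊ ≤ Ideal.span E) : Algebra.adjoin (𝒜 0) E = ⊤ := by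
  classical
  have key : ∀ n : ℕ, ∀ x ∈ 𝒜 n, x ∈ Algebra.adjoin (𝒜 0) E := by
    intro n
    induction n using Nat.strong_induction_on with
    | _ n ih =>
      intro x hx
      rcases Nat.eq_zero_or_pos n with rfl | hn
      · exact Subalgebra.algebraMap_mem (Algebra.adjoin (𝒜 0) E) (⟨x, hx⟩ : 𝒜 0)
      · have hxs : x ∈ Ideal.span E := h (mem_irr_of_mem 𝒜 hn hx)
        have main : ∀ y ∈ Ideal.span E, ∀ z : A,
            (decompose 𝒜 (z * y) n : A) ∈ Algebra.adjoin (𝒜 0) E := by
          intro y hy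
          induction hy using Submodule.span_induction with
          | mem e he =>
            intro z
            obtain ⟨d, hd, hed⟩ := hE e he
            rw [coe_decompose_mul_of_right_mem 𝒜 n hed]
            split
            · exact mul_mem (ih (n - d) (by omega) _ (decompose 𝒜 z (n - d)).2)
                (Algebra.subset_adjoin he)
            · exact zero_mem _
          | zero => intro z; simp
          | add a b _ _ ha hb => intro z; simpa [mul_add] using add_mem (ha z) (hb z)
          | smul c a _ ha => intro z; simpa [smul_eq_mul, mul_assoc] using ha (z * c)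
        have := main x hxs 1
        rwa [one_mul, decompose_of_mem_same 𝒜 hx] at this
  rw [eq_top_iff]
  intro x _
  rw [← DirectSum.sum_support_decompose 𝒜 x]
  exact sum_mem fun n _ => key n _ (decompose 𝒜 x n).2

theorem sub_decompose_zero_mem_span {E : Set A} (hE : ∀ e ∈ E, ∃ d : ℕ, 0 < d ∧ e ∈ 𝒜 d)
    (h : Algebra.adjoin (𝒜 0) E = ⊤) (x : A) :
    x - GradedRing.projZeroRingHom 𝒜 x ∈ Ideal.span E := by
  have hx : x ∈ Algebra.adjoin (𝒜 0) E := by rw [h]; trivial
  induction hx using Algebra.adjoin_induction with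
  | mem e he =>
    obtain ⟨d, hd, hed⟩ := hE e he
    rw [GradedRing.projZeroRingHom_apply, decompose_of_mem_ne 𝒜 hed hd.ne', sub_zero]
    exact Ideal.subset_span he
  | algebraMap r =>
    convert! zero_mem (Ideal.span E)
    rw [sub_eq_zero]
    exact (DirectSum.decompose_of_mem_same 𝒜 r.2).symm
  | add x y _ _ hx hy => rw [map_add, add_sub_add_comm]; exact add_mem hx hy
  | mul x y _ _ hx hy =>
    convert! add_mem (Ideal.mul_mem_left _ x hy)
      (Ideal.mul_mem_right (GradedRing.projZeroRingHom 𝒜 y) _ hx) using 1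
    rw [map_mul]; ring

theorem irrelevant_eq_span_iff {E : Set A} (hE : ∀ e ∈ E, ∃ d : ℕ, 0 < d ∧ e ∈ 𝒜 d) :
    S₊ = Ideal.span E ↔ Algebra.adjoin (𝒜 0) E = ⊤ := by
  refine ⟨fun h => adjoin_eq_top_of_span_eq 𝒜 hE h.le, fun h => le_antisymm (fun x hx => ?_) ?_⟩
  · have := sub_decompose_zero_mem_span 𝒜 hE h x
    rwa [GradedRing.projZeroRingHom_apply, (mem_irr_iff 𝒜).1 hx, sub_zero] at this
  · refine Ideal.span_le.2 fun e he => ?_
    obtain ⟨d, hd, hed⟩ := hE e he
    exact mem_irr_of_mem 𝒜 hd hed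

theorem exists_homogeneous_gens [Algebra.FiniteType (𝒜 0) A] :
    ∃ s : Finset A, (∀ e ∈ (s : Set A), ∃ d : ℕ, 0 < d ∧ e ∈ 𝒜 d) ∧
      Algebra.adjoin (𝒜 0) (s : Set A) = ⊤ ∧ S₊ = Ideal.span (s : Set A) := by
  obtain ⟨s, h1, h2⟩ := GradedAlgebra.exists_finset_adjoin_eq_top_and_homogeneous_ne_zero 𝒜
  have hE : ∀ e ∈ (s : Set A), ∃ d : ℕ, 0 < d ∧ e ∈ 𝒜 d := fun e he =>
    let ⟨d, hd, hed⟩ := h2 e he; ⟨d, Nat.pos_of_ne_zero hd, hed⟩
  exact ⟨s, hE, h1, (irrelevant_eq_span_iff 𝒜 hE).2 h1⟩

theorem irrelevant_fg_iff : (S₊).FG ↔ Algebra.FiniteType (𝒜 0) A := by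
  classical
  constructor
  · rintro ⟨s, hs⟩
    let E : Finset A := (s.biUnion fun x => ((decompose 𝒜 x).support.filter (0 < ·)).image
      fun i => (decompose 𝒜 x i : A))
    have hE : ∀ e ∈ (E : Set A), ∃ d : ℕ, 0 < d ∧ e ∈ 𝒜 d := by
      intro e he
      simp only [E, Finset.coe_biUnion, Finset.coe_image, Finset.coe_filter, Set.mem_iUnion,
        Set.mem_image, Set.mem_setOf_eq] at he
      obtain ⟨x, -, i, ⟨-, hi⟩, rfl⟩ := he
      exact ⟨i, hi, (decompose 𝒜 x i).2⟩
    have hle : S₊ ≤ Ideal.span (E : Set A) := by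
      refine hs.symm.le.trans (Ideal.span_le.2 ?_)
      intro x hx
      have hx' : x ∈ S₊ := hs ▸ Ideal.subset_span hx
      rw [← DirectSum.sum_support_decompose 𝒜 x]
      refine sum_mem fun i hi => ?_
      rcases Nat.eq_zero_or_pos i with rfl | hi0
      · rw [(mem_irr_iff 𝒜).1 hx']; exact zero_mem _
      · refine Ideal.subset_span ?_
        simp only [E, Finset.coe_biUnion, Finset.coe_image, Finset.coe_filter, Set.mem_iUnion,
          Set.mem_image, Set.mem_setOf_eq]
        exact ⟨x, hx, i, ⟨hi, hi0⟩, rfl⟩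
    exact ⟨⟨E, adjoin_eq_top_of_span_eq 𝒜 hE hle⟩⟩
  · intro h
    obtain ⟨s, -, -, hs⟩ := exists_homogeneous_gens 𝒜
    exact ⟨s, hs.symm⟩

section Module

variable {M : Type u} [AddCommGroup M] [Module R M] [Module A M]
  (ℳ : ℕ → Submodule R M) [DirectSum.Decomposition ℳ] [SetLike.GradedSMul 𝒜 ℳ]

theorem decompose_smul_of_mem {i : ℕ} {a : A} (ha : a ∈ 𝒜 i) (m : M) (n : ℕ) :
    (decompose ℳ (a • m) n : M) = if i ≤ n then a • (decompose ℳ m (n - i) : M) else 0 := by
  induction m using DirectSum.Decomposition.inductionOn ℳ with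
  | zero => simp
  | @homogeneous j x =>
    have hax : a • (x : M) ∈ ℳ (i + j) := SetLike.GradedSMul.smul_mem ha x.2
    by_cases hn : i + j = n
    · subst hn
      rw [decompose_of_mem_same ℳ hax, if_pos (by omega), Nat.add_sub_cancel_left,
        decompose_of_mem_same ℳ x.2]
    · rw [decompose_of_mem_ne ℳ hax hn]
      split
      · rw [decompose_of_mem_ne ℳ x.2 (by omega), smul_zero]
      · rfl
  | add x y hx hy =>
    simp only [smul_add, decompose_add, DirectSum.add_apply, Submodule.coe_add, hx, hy]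
    split <;> simp

variable [IsScalarTower R A M] [Algebra.FiniteType (𝒜 0) A] [Module.Finite A M]

/-- Eventual periodicity of a finite graded module. -/
theorem exists_eventually_periodic :
    ∃ l n₁ : ℕ, 0 < l ∧ ∀ n : ℕ, n₁ ≤ n →
      ℳ (n + l) = (𝒜 l : Submodule R A) • (ℳ n : Submodule R M) := by
  classical
  obtain ⟨s, hE, hs, -⟩ := exists_homogeneous_gens 𝒜
  choose! d hd hmem using hE
  let l := ∏ i ∈ s, d i
  have hl : 0 < l := Finset.prod_pos fun i hi => hd i hi
  have hdvd : ∀ i ∈ s, d i ∣ l := fun i hi => Finset.dvd_prod_of_mem d hi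
  let G : Set A := (fun i => i ^ (l / d i)) '' s
  have hG : ∀ g ∈ G, g ∈ 𝒜 l := by
    rintro _ ⟨i, hi, rfl⟩
    have := SetLike.pow_mem_graded (l / d i) (hmem i hi)
    rwa [smul_eq_mul, Nat.div_mul_cancel (hdvd i hi)] at this
  let C : Subalgebra (𝒜 0) A := Algebra.adjoin (𝒜 0) G
  have : Algebra.IsIntegral C A := by
    refine ⟨fun x => ?_⟩
    have hx : x ∈ Algebra.adjoin (𝒜 0) (s : Set A) := by rw [hs]; trivial
    induction hx using Algebra.adjoin_induction with
    | mem i hi =>
      refine IsIntegral.of_pow (n := l / d i)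
        (Nat.div_pos (Nat.le_of_dvd hl (hdvd i hi)) (hd i hi)) ?_
      exact isIntegral_algebraMap (R := C) (x := ⟨i ^ (l / d i), Algebra.subset_adjoin ⟨i, hi, rfl⟩⟩)
    | algebraMap r => exact isIntegral_algebraMap (R := C) (x := ⟨_, C.algebraMap_mem r⟩)
    | add x y _ _ hx hy => exact hx.add hy
    | mul x y _ _ hx hy => exact hx.mul hy
  have : Algebra.FiniteType C A := Algebra.FiniteType.of_restrictScalars_finiteType (𝒜 0) C A
  have : Module.Finite C A := (Algebra.IsIntegral.finite (R := C) (A := A) :)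
  have : Module.Finite C M := Module.Finite.trans A M
  obtain ⟨t, ht⟩ := Module.Finite.fg_top (R := C) (M := M)
  let N := t.sup fun m => (decompose ℳ m).support.sup id
  have hN : ∀ m ∈ t, ∀ n, N < n → (decompose ℳ m n : M) = 0 := by
    intro m hm n hn
    by_contra hne
    have hn' : n ∈ (decompose ℳ m).support := by
      rw [DFinsupp.mem_support_iff]; intro h0; exact hne (by rw [h0]; rfl)
    exact absurd ((Finset.le_sup (f := id) hn').trans
      (Finset.le_sup (f := fun m => (decompose ℳ m).support.sup id) hm)) (by simpa using hn)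
  have zero_smul_mem : ∀ (r : A), r ∈ 𝒜 0 → ∀ (n : ℕ) (y : M),
      y ∈ (𝒜 l : Submodule R A) • (ℳ n : Submodule R M) →
      r • y ∈ (𝒜 l : Submodule R A) • (ℳ n : Submodule R M) := by
    intro r hr n y hy
    refine Submodule.smul_induction_on hy (fun b hb c hc => ?_) fun x y hx hy => ?_
    · rw [← mul_smul]
      have := SetLike.GradedMul.mul_mem hr hb
      rw [zero_add] at this
      exact Submodule.smul_mem_smul this hc
    · rw [smul_add]; exact add_mem hx hy
  refine ⟨l, N + 1, hl, fun n hn => le_antisymm ?_ ?_⟩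
  · let T : Set M := {x | ∀ n, N < n → (decompose ℳ x (n + l) : M) ∈ (𝒜 l : Submodule R A) • ℳ n}
    have hTsmul : ∀ c ∈ C, ∀ x ∈ T, c • x ∈ T := by
      intro c hc
      induction hc using Algebra.adjoin_induction with
      | mem g hg =>
        intro x hx n hn
        rw [decompose_smul_of_mem 𝒜 ℳ (hG g hg), if_pos (by omega), Nat.add_sub_cancel]
        exact Submodule.smul_mem_smul (hG g hg) (decompose ℳ x n).2
      | algebraMap r =>
        intro x hx n hn
        have h0 : (r : A) ∈ 𝒜 0 := r.2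
        change (decompose ℳ ((r : A) • x) (n + l) : M) ∈ _
        rw [decompose_smul_of_mem 𝒜 ℳ h0, if_pos (Nat.zero_le _), Nat.sub_zero]
        exact zero_smul_mem _ h0 _ _ (hx n hn)
      | add a b _ _ ha hb =>
        intro x hx n hn
        rw [add_smul, decompose_add, DirectSum.add_apply, Submodule.coe_add]
        exact add_mem (ha x hx n hn) (hb x hx n hn)
      | mul a b _ _ ha hb =>
        intro x hx
        rw [mul_smul]; exact ha _ (hb x hx)
    have htop : ∀ x : M, x ∈ T := by
      intro x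
      have hx : x ∈ Submodule.span C (t : Set M) := by rw [ht]; trivial
      induction hx using Submodule.span_induction with
      | mem m hm =>
        intro n hn
        rw [hN m hm (n + l) (by omega)]; exact zero_mem _
      | zero => intro n hn; simp
      | add a b _ _ ha hb =>
        intro n hn
        rw [decompose_add, DirectSum.add_apply, Submodule.coe_add]
        exact add_mem (ha n hn) (hb n hn)
      | smul c a _ ha => exact hTsmul c c.2 a ha
    intro x hx
    have := htop x n (by omega)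
    rwa [decompose_of_mem_same ℳ hx] at this
  · refine Submodule.smul_le.2 fun a ha m hm => ?_
    rw [add_comm]; exact SetLike.GradedSMul.smul_mem ha hm

/-- The periodicity persists for multiples of the period. -/
theorem periodic_mul {l n₁ : ℕ} (hl : 0 < l)
    (h : ∀ n : ℕ, n₁ ≤ n → ℳ (n + l) = (𝒜 l : Submodule R A) • (ℳ n : Submodule R M))
    (j : ℕ) (hj : 0 < j) (n : ℕ) (hn : n₁ ≤ n) :
    ℳ (n + j * l) = (𝒜 (j * l) : Submodule R A) • (ℳ n : Submodule R M) := by
  refine le_antisymm ?_ (Submodule.smul_le.2 fun a ha m hm => ?_)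
  · induction j with
    | zero => omega
    | succ j ih =>
      rcases Nat.eq_zero_or_pos j with rfl | hj'
      · simp only [zero_add, one_mul]; exact (h n hn).le
      · rw [show n + (j + 1) * l = (n + j * l) + l by ring, h _ (by nlinarith)]
        refine (Submodule.smul_mono le_rfl (ih hj')).trans ?_
        rw [← Submodule.smul_assoc (𝒜 l : Submodule R A), smul_eq_mul]
        refine Submodule.smul_mono (Submodule.mul_le.2 fun a ha b hb => ?_) le_rfl
        rw [show (j + 1) * l = l + j * l by ring]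
        exact SetLike.GradedMul.mul_mem ha hb
  · rw [add_comm]; exact SetLike.GradedSMul.smul_mem ha hm

end Module

end Groth.Agent.EGA2
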