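import Groth.Agent.Lib.EGA2.ProjSpectrum
import Mathlib.AlgebraicGeometry.ProjectiveSpectrum.Functor
import Mathlib.AlgebraicGeometry.Morphisms.Affine
import Mathlib.AlgebraicGeometry.Morphisms.Basic
import Mathlib.AlgebraicGeometry.Properties

/-!
Checking properties of `Proj` and `Proj.map` on the standard charts.
-/

set_option autoImplicit false

open CategoryTheory CategoryTheory.Limits AlgebraicGeometry HomogeneousLocalization

universe u

namespace Groth.Agent.EGA2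

section Localization

variable {R A : Type u} [CommRing R] [CommRing A] [Algebra R A]
  (𝒜 : ℕ → Submodule R A) [GradedAlgebra 𝒜]

theorem away_mk_eq_iff {d : ℕ} {f : A} (hf : f ∈ 𝒜 d) {m n : ℕ} {a b : A}
    {ha : a ∈ 𝒜 (m • d)} {hb : b ∈ 𝒜 (n • d)} :
    Away.mk 𝒜 hf m a ha = Away.mk 𝒜 hf n b hb ↔ ∃ k, f ^ k * (f ^ n * a) = f ^ k * (f ^ m * b) := by
  rw [HomogeneousLocalization.ext_iff_val, Away.val_mk, Away.val_mk, Localization.mk_eq_mk_iff,
    Localization.r_iff_exists]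
  exact ⟨fun ⟨⟨_, k, rfl⟩, h⟩ => ⟨k, h⟩, fun ⟨k, h⟩ => ⟨⟨_, k, rfl⟩, h⟩⟩

theorem away_mk_eq_zero_iff {d : ℕ} {f : A} (hf : f ∈ 𝒜 d) {m : ℕ} {a : A}
    {ha : a ∈ 𝒜 (m • d)} : Away.mk 𝒜 hf m a ha = 0 ↔ ∃ k, f ^ k * a = 0 := by
  rw [HomogeneousLocalization.ext_iff_val, Away.val_mk, HomogeneousLocalization.val_zero,
    ← Localization.mk_zero (1 : Submonoid.powers f), Localization.mk_eq_mk_iff,
    Localization.r_iff_exists]
  simp only [OneMemClass.coe_one, one_mul, mul_zero]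
  exact ⟨fun ⟨⟨_, k, rfl⟩, h⟩ => ⟨k, h⟩, fun ⟨k, h⟩ => ⟨⟨_, k, rfl⟩, h⟩⟩

end Localization

variable {R A B : Type u} [CommRing R] [CommRing A] [Algebra R A]
  {𝒜 : ℕ → Submodule R A} [GradedAlgebra 𝒜] [CommRing B] [Algebra R B]
  {ℬ : ℕ → Submodule R B} [GradedAlgebra ℬ]
  (φ : 𝒜 →+*ᵍ ℬ) (hφ : HomogeneousIdeal.irrelevant ℬ ≤ (HomogeneousIdeal.irrelevant 𝒜).map φ)

/-- The square of charts of `Proj.map` is cartesian. -/
theorem isPullback_map {d : ℕ} (hd : 0 < d) {s : A} (hs : s ∈ 𝒜 d) :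
    IsPullback (Spec.map (CommRingCat.ofHom (Away.map φ s)))
      (Proj.awayι ℬ (φ s) (φ.2 hs) hd) (Proj.awayι 𝒜 s hs hd) (Proj.map φ hφ) :=
  IsOpenImmersion.isPullback _ _ _ _ (Proj.awayι_comp_map φ hφ hd s hs)
    (by rw [Proj.opensRange_awayι, Proj.opensRange_awayι, Proj.map_preimage_basicOpen])

theorem iSup_basicOpen_pos (𝒜 : ℕ → Submodule R A) [GradedAlgebra 𝒜] :
    (⨆ f : {f : A // ∃ d : ℕ, 0 < d ∧ f ∈ 𝒜 d}, Proj.basicOpen 𝒜 f.1) = ⊤ := by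
  refine Proj.iSup_basicOpen_eq_top 𝒜 _ ((HomogeneousIdeal.toIdeal_irrelevant_le _).2 fun i hi x hx =>
    Ideal.subset_span ⟨⟨x, i, hi, hx⟩, rfl⟩)

/-- A property local on the target holds for `Proj.map` if it holds on the charts. -/
theorem map_of_forall_away (P : MorphismProperty Scheme.{u}) [IsZariskiLocalAtTarget P]
    (h : ∀ (d : ℕ) (_ : 0 < d) (s : A) (_ : s ∈ 𝒜 d),
      P (Spec.map (CommRingCat.ofHom (Away.map φ s)))) : P (Proj.map φ hφ) := by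
  refine IsZariskiLocalAtTarget.of_openCover (Proj.affineOpenCover 𝒜).openCover fun i => ?_
  exact (P.arrow_mk_iso_iff (Arrow.isoMk ((isPullback_map φ hφ i.1.2 i.2.2).flip.isoPullback)
    (Iso.refl _) (by
      simp only [Functor.id_obj, Arrow.mk_right, Arrow.mk_left, Arrow.mk_hom, Iso.refl_hom,
        Category.comp_id]
      exact IsPullback.isoPullback_hom_snd _))).1 (h _ i.1.2 _ i.2.2)

theorem away_map_surjective (h : ∀ n : ℕ, 0 < n → Set.SurjOn φ (𝒜 n) (ℬ n)) {d : ℕ} (hd : 0 < d)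
    {s : A} (hs : s ∈ 𝒜 d) : Function.Surjective (Away.map φ s) := by
  intro x
  obtain ⟨n, b, hb, rfl⟩ := Away.mk_surjective ℬ (φ.2 hs) x
  have hb' : b * φ s ∈ ℬ ((n + 1) • d) := by
    rw [succ_nsmul]; exact SetLike.mul_mem_graded hb (φ.2 hs)
  obtain ⟨a, ha, hab⟩ := h ((n + 1) • d) (Nat.mul_pos (Nat.succ_pos n) hd) hb'
  refine ⟨Away.mk 𝒜 hs (n + 1) a ha, ?_⟩
  rw [Away.map_mk, away_mk_eq_iff]
  exact ⟨0, by rw [hab]; ring⟩

theorem away_map_injective (h : ∀ n : ℕ, 0 < n → Set.InjOn φ (𝒜 n)) {d : ℕ} (hd : 0 < d)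
    {s : A} (hs : s ∈ 𝒜 d) : Function.Injective (Away.map φ s) := by
  rw [injective_iff_map_eq_zero]
  intro x hx
  obtain ⟨n, a, ha, rfl⟩ := Away.mk_surjective 𝒜 hs x
  rw [Away.map_mk, away_mk_eq_zero_iff] at hx
  obtain ⟨k, hk⟩ := hx
  rw [away_mk_eq_zero_iff]
  refine ⟨k + 1, h ((k + 1) • d + n • d) (Nat.add_pos_left (Nat.mul_pos (Nat.succ_pos k) hd) _)
    (SetLike.mul_mem_graded (SetLike.pow_mem_graded _ hs) ha) (zero_mem _) ?_⟩
  rw [map_zero, map_mul, map_pow, pow_succ', mul_assoc, hk, mul_zero]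

theorem isAffineHom_map : IsAffineHom (Proj.map φ hφ) :=
  map_of_forall_away φ hφ @IsAffineHom fun _ _ _ _ => inferInstance

theorem away_isReduced (𝒜 : ℕ → Submodule R A) [GradedAlgebra 𝒜]
    (hred : ∀ f ∈ (HomogeneousIdeal.irrelevant 𝒜).toIdeal, IsNilpotent f → f = 0)
    {d : ℕ} (hd : 0 < d) {f : A} (hf : f ∈ 𝒜 d) : _root_.IsReduced (Away 𝒜 f) := by
  refine ⟨fun x ⟨N, hN⟩ => ?_⟩
  obtain ⟨n, a, ha, rfl⟩ := Away.mk_surjective 𝒜 hf x
  have hN' : Away.mk 𝒜 hf (N * n) (a ^ N)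
      (by have := SetLike.pow_mem_graded N ha; rwa [← mul_smul] at this) = 0 := by
    rw [← hN]
    apply HomogeneousLocalization.val_injective
    rw [HomogeneousLocalization.val_pow, Away.val_mk, Away.val_mk, Localization.mk_pow]
    congr 1
    exact Subtype.ext (by simp [← pow_mul, mul_comm])
  obtain ⟨k, hk⟩ := (away_mk_eq_zero_iff 𝒜 hf).1 hN'
  refine (away_mk_eq_zero_iff 𝒜 hf).2 ⟨1, hred _ ?_ ⟨N + k, ?_⟩⟩
  · exact mem_irr_of_mem 𝒜 (Nat.add_pos_left (Nat.mul_pos Nat.one_pos hd) _) (SetLike.mul_mem_graded (SetLike.pow_mem_graded 1 hf) ha)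
  · calc (f ^ 1 * a) ^ (N + k) = f ^ N * a ^ k * (f ^ k * a ^ N) := by ring
      _ = 0 := by rw [hk, mul_zero]

theorem isReduced_proj (𝒜 : ℕ → Submodule R A) [GradedAlgebra 𝒜]
    (hred : ∀ f ∈ (HomogeneousIdeal.irrelevant 𝒜).toIdeal, IsNilpotent f → f = 0) :
    AlgebraicGeometry.IsReduced (Proj 𝒜) := by
  have : ∀ i, AlgebraicGeometry.IsReduced ((Proj.affineOpenCover 𝒜).openCover.X i) := fun i => by
    have := away_isReduced 𝒜 hred i.1.2 i.2.2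
    exact (affine_isReduced_iff _).2 this
  exact IsReduced.of_openCover _ (Proj.affineOpenCover 𝒜).openCover

end Groth.Agent.EGA2
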