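import Groth.Prelude.Def_AffAlg
import Mathlib.AlgebraicGeometry.Morphisms.Affine
import Mathlib.Topology.Sheaves.SheafCondition.Sites

/-!
Affine `S`-schemes are determined by their algebras.
-/

set_option autoImplicit false

open CategoryTheory CategoryTheory.Limits AlgebraicGeometry TopologicalSpace Opposite

universe u

namespace Groth.Agent.EGA2

variable {X Y S : Scheme.{u}} (f : X ⟶ S) (g : Y ⟶ S)

theorem preimage_le_of_comp_eq (h : Y ⟶ X) (w : h ≫ f = g) (U : S.Opens) :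
    g ⁻¹ᵁ U ≤ h ⁻¹ᵁ (f ⁻¹ᵁ U) := by subst w; exact le_rfl

theorem algHom_app (h : Y ⟶ X) (w : h ≫ f = g) (U : S.Opens) :
    (AffAlg.algHom f g h w).app (op U) =
      h.appLE (f ⁻¹ᵁ U) (g ⁻¹ᵁ U) (preimage_le_of_comp_eq f g h w U) := by
  subst w
  simp only [AffAlg.algHom, eqToHom_refl, Category.comp_id]
  exact (Scheme.Hom.appLE_eq_app h).symm

/-- The morphism `g ⁻¹ U ⟶ X` of an algebra map, on an affine `U`. -/
noncomputable def piece [IsAffineHom f] (ω : AffAlg.alg f ⟶ AffAlg.alg g) (U : S.affineOpens) :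
    (g ⁻¹ᵁ U.1 : Scheme.{u}) ⟶ X :=
  (g ⁻¹ᵁ U.1).toSpecΓ ≫ Spec.map (ω.app (op U.1)) ≫ (U.2.preimage f).fromSpec

theorem piece_restrict [IsAffineHom f] (ω : AffAlg.alg f ⟶ AffAlg.alg g) (U V : S.affineOpens)
    (hUV : U.1 ≤ V.1) :
    Y.homOfLE (show g ⁻¹ᵁ U.1 ≤ g ⁻¹ᵁ V.1 from fun y hy => hUV hy) ≫ piece f g ω V =
      piece f g ω U := by
  have hle : g ⁻¹ᵁ U.1 ≤ g ⁻¹ᵁ V.1 := fun y hy => hUV hy
  have hnat : ω.app (op V.1) ≫ Y.presheaf.map (homOfLE hle).op =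
      X.presheaf.map (homOfLE (show f ⁻¹ᵁ U.1 ≤ f ⁻¹ᵁ V.1 from fun y hy => hUV hy)).op ≫
        ω.app (op U.1) :=
    (ω.naturality (homOfLE hUV).op).symm
  rw [piece, ← Category.assoc, ← Scheme.Opens.toSpecΓ_SpecMap_presheaf_map, Category.assoc,
    ← Spec.map_comp_assoc, hnat, Spec.map_comp_assoc, IsAffineOpen.map_fromSpec _ (U.2.preimage f)]
  rfl

theorem piece_over [IsAffineHom f] (ω : AffAlg.alg f ⟶ AffAlg.alg g) (hω : f.c ≫ ω = g.c)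
    (U : S.affineOpens) : piece f g ω U ≫ f = (g ⁻¹ᵁ U.1).ι ≫ g := by
  have h1 : f.app U.1 ≫ ω.app (op U.1) = g.app U.1 := congr_app hω (op U.1)
  have key : ∀ a : Γ(X, f ⁻¹ᵁ U.1) ⟶ Γ(Y, g ⁻¹ᵁ U.1), f.app U.1 ≫ a = g.app U.1 →
      ((g ⁻¹ᵁ U.1).toSpecΓ ≫ Spec.map a ≫ (U.2.preimage f).fromSpec) ≫ f = (g ⁻¹ᵁ U.1).ι ≫ g := by
    intro a ha
    rw [Category.assoc, Category.assoc,
      ← IsAffineOpen.SpecMap_appLE_fromSpec f U.2 (U.2.preimage f) le_rfl, ← Spec.map_comp_assoc,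
      Scheme.Hom.appLE_eq_app, ha, ← Category.assoc, Scheme.Opens.toSpecΓ_naturality,
      Category.assoc, U.2.toSpecΓ_fromSpec, morphismRestrict_ι]
  exact key _ h1

theorem piece_algHom [IsAffineHom f] (h : Y ⟶ X) (w : h ≫ f = g) (U : S.affineOpens) :
    piece f g (AffAlg.algHom f g h w) U = (g ⁻¹ᵁ U.1).ι ≫ h := by
  rw [piece, algHom_app, ← Category.assoc, Scheme.Opens.toSpecΓ_SpecMap_appLE, Category.assoc,
    (U.2.preimage f).toSpecΓ_fromSpec, Scheme.Hom.resLE_comp_ι]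

theorem eq_of_piece_eq [IsAffineHom f] (ω ω' : AffAlg.alg f ⟶ AffAlg.alg g)
    (h : ∀ U, piece f g ω U = piece f g ω' U) : ω = ω' := by
  refine TopCat.Sheaf.hom_ext (F' := (TopCat.Sheaf.pushforward CommRingCat.{u} g.base).obj Y.sheaf)
    (B := fun U : S.affineOpens => U.1) _ (by simpa using S.isBasis_affineOpens) fun U => ?_
  have := h U
  rw [piece, piece, ← Category.assoc, ← Category.assoc, cancel_mono] at this
  have h2 := congrArg (fun m => Scheme.Hom.appTop m) this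
  simp only [Scheme.Hom.comp_appTop, Scheme.Opens.toSpecΓ_appTop] at h2
  rw [← cancel_epi (Scheme.ΓSpecIso Γ(X, f ⁻¹ᵁ U.1)).hom]
  erw [← Scheme.ΓSpecIso_naturality (ω.app (op U.1)), ← Scheme.ΓSpecIso_naturality (ω'.app (op U.1))]
  exact (cancel_mono (g ⁻¹ᵁ U.1).topIso.inv).1
    ((Category.assoc _ _ _).trans (h2.trans (Category.assoc _ _ _).symm))

theorem exists_algHom_eq [IsAffineHom f] (ω : AffAlg.alg f ⟶ AffAlg.alg g) (hω : f.c ≫ ω = g.c) :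
    ∃ (h : Y ⟶ X) (w : h ≫ f = g), AffAlg.algHom f g h w = ω := by
  have hcov : IsOpenCover fun U : S.affineOpens => g ⁻¹ᵁ U.1 := by
    refine IsOpenCover.mk (top_le_iff.1 fun y _ => Opens.mem_iSup.2 ?_)
    obtain ⟨_, ⟨U, hU, rfl⟩, hyU, -⟩ :=
      S.isBasis_affineOpens.exists_subset_of_mem_open (Set.mem_univ (g y)) isOpen_univ
    exact ⟨⟨U, hU⟩, hyU⟩
  let 𝒰 : Y.OpenCover := Y.openCoverOfIsOpenCover _ hcov
  have hglue : ∀ U V : S.affineOpens,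
      pullback.fst (g ⁻¹ᵁ U.1).ι (g ⁻¹ᵁ V.1).ι ≫ piece f g ω U =
        pullback.snd (g ⁻¹ᵁ U.1).ι (g ⁻¹ᵁ V.1).ι ≫ piece f g ω V := by
    intro U V
    rw [← cancel_epi (isPullback_opens_inf (g ⁻¹ᵁ U.1) (g ⁻¹ᵁ V.1)).isoPullback.hom,
      IsPullback.isoPullback_hom_fst_assoc, IsPullback.isoPullback_hom_snd_assoc]
    let J := {W : S.affineOpens // W.1 ≤ U.1 ⊓ V.1}
    have hcov' : IsOpenCover fun W : J => (g ⁻¹ᵁ U.1 ⊓ g ⁻¹ᵁ V.1).ι ⁻¹ᵁ (g ⁻¹ᵁ W.1.1) := by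
      refine IsOpenCover.mk (top_le_iff.1 fun y _ => Opens.mem_iSup.2 ?_)
      obtain ⟨_, ⟨W, hW, rfl⟩, hyW, hWle⟩ :=
        S.isBasis_affineOpens.exists_subset_of_mem_open
          (show g y.1 ∈ U.1 ⊓ V.1 from y.2) (U.1 ⊓ V.1).2
      exact ⟨⟨⟨W, hW⟩, hWle⟩, hyW⟩
    refine ((g ⁻¹ᵁ U.1 ⊓ g ⁻¹ᵁ V.1 : Y.Opens).toScheme.openCoverOfIsOpenCover _ hcov').hom_ext _ _
      fun W => ?_
    have hW : ∀ (Z : S.affineOpens) (hZ : W.1.1 ≤ Z.1) (hle : g ⁻¹ᵁ U.1 ⊓ g ⁻¹ᵁ V.1 ≤ g ⁻¹ᵁ Z.1),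
        ((g ⁻¹ᵁ U.1 ⊓ g ⁻¹ᵁ V.1).ι ⁻¹ᵁ (g ⁻¹ᵁ W.1.1)).ι ≫ Y.homOfLE hle ≫ piece f g ω Z =
          ((g ⁻¹ᵁ U.1 ⊓ g ⁻¹ᵁ V.1).ι ∣_ (g ⁻¹ᵁ W.1.1)) ≫ piece f g ω W.1 := by
      intro Z hZ hle
      rw [← piece_restrict f g ω W.1 Z hZ, ← Category.assoc, ← Category.assoc]
      congr 1
      rw [← cancel_mono (g ⁻¹ᵁ Z.1).ι]
      simp [morphismRestrict_ι]
    exact (hW U (W.2.trans inf_le_left) inf_le_left).trans
      (hW V (W.2.trans inf_le_right) inf_le_right).symm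
  let h : Y ⟶ X := 𝒰.glueMorphisms (piece f g ω) hglue
  have hh : ∀ U, (g ⁻¹ᵁ U.1).ι ≫ h = piece f g ω U := fun U => 𝒰.ι_glueMorphisms _ hglue U
  have w : h ≫ f = g := 𝒰.hom_ext _ _ fun U => by
    show (g ⁻¹ᵁ U.1).ι ≫ h ≫ f = (g ⁻¹ᵁ U.1).ι ≫ g
    exact (Category.assoc _ _ _).symm.trans ((congrArg (· ≫ f) (hh U)).trans (piece_over f g ω hω U))
  exact ⟨h, w, eq_of_piece_eq f g _ _ fun U => (piece_algHom f g h w U).trans (hh U)⟩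

theorem hom_ext_of_piece [IsAffineHom f] (h h' : Y ⟶ X) (w : h ≫ f = g) (w' : h' ≫ f = g)
    (e : AffAlg.algHom f g h w = AffAlg.algHom f g h' w') : h = h' := by
  have hcov : IsOpenCover fun U : S.affineOpens => g ⁻¹ᵁ U.1 := by
    refine IsOpenCover.mk (top_le_iff.1 fun y _ => Opens.mem_iSup.2 ?_)
    obtain ⟨_, ⟨U, hU, rfl⟩, hyU, -⟩ :=
      S.isBasis_affineOpens.exists_subset_of_mem_open (Set.mem_univ (g y)) isOpen_univ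
    exact ⟨⟨U, hU⟩, hyU⟩
  refine (Y.openCoverOfIsOpenCover _ hcov).hom_ext _ _ fun U => ?_
  show (g ⁻¹ᵁ U.1).ι ≫ h = (g ⁻¹ᵁ U.1).ι ≫ h'
  rw [← piece_algHom f g h w, ← piece_algHom f g h' w', e]

end Groth.Agent.EGA2
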