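import Mathlib.LinearAlgebra.Eigenspace.Charpoly
import Mathlib.LinearAlgebra.Eigenspace.Minpoly
import Mathlib.LinearAlgebra.Charpoly.BaseChange
import Mathlib.LinearAlgebra.Matrix.Charpoly.LinearMap
import Mathlib.RingTheory.Polynomial.IsIntegral
import Mathlib.FieldTheory.IsAlgClosed.AlgebraicClosure

/-!
Integrality of the coefficients of characteristic polynomials.
-/

set_option autoImplicit false

open Polynomial TensorProduct

universe u

namespace Groth.Agent.EGA2

variable {A K V : Type u} [CommRing A] [Field K] [Algebra A K] [AddCommGroup V] [Module K V]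
  [FiniteDimensional K V]

/-- If `w` is killed by a monic polynomial over `A`, its characteristic polynomial has coefficients
integral over `A`. -/
theorem isIntegral_charpoly_coeff (w : Module.End K V) {p : A[X]} (hp : p.Monic)
    (hw : aeval w (p.map (algebraMap A K)) = 0) (i : ℕ) : IsIntegral A (w.charpoly.coeff i) := by
  let L := AlgebraicClosure K
  refine (isIntegral_algHom_iff (IsScalarTower.toAlgHom A K L)
    (FaithfulSMul.algebraMap_injective K L)).mp ?_
  rw [IsScalarTower.coe_toAlgHom', ← coeff_map, ← LinearMap.charpoly_baseChange]
  refine isIntegral_coeff_of_factors _ (by simp [LinearMap.charpoly_monic, isIntegral_one])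
    (IsAlgClosed.splits _) (fun x hx => ?_) i
  obtain ⟨v, hv⟩ := ((Module.End.hasEigenvalue_iff_isRoot_charpoly _ x).2 hx).exists_hasEigenvector
  have h := Module.End.aeval_apply_of_hasEigenvector (p := (p.map (algebraMap A K)).map (algebraMap K L)) hv
  rw [aeval_map_algebraMap] at h
  have h0 : aeval (LinearMap.baseChange L w) (p.map (algebraMap A K)) = 0 := by
    have := Polynomial.aeval_algHom_apply (Module.End.baseChangeHom K L V) w (p.map (algebraMap A K))
    rw [hw, map_zero] at this
    exact this
  rw [h0, LinearMap.zero_apply, eq_comm, smul_eq_zero] at h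
  refine ⟨p, hp, ?_⟩
  have := h.resolve_right hv.2
  rwa [Polynomial.map_map, ← IsScalarTower.algebraMap_eq, eval_map] at this

end Groth.Agent.EGA2
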