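import Mathlib.AlgebraicGeometry.Gluing
import Mathlib.AlgebraicGeometry.OpenImmersion
import Mathlib.AlgebraicGeometry.Restrict

/-!
Gluing morphisms out of a scheme covered by charts whose intersections are again charts.
-/

set_option autoImplicit false

open CategoryTheory CategoryTheory.Limits AlgebraicGeometry

universe u

namespace Groth.Agent.EGA2

variable {X Y : Scheme.{u}} {ι : Type u} {U : ι → Scheme.{u}} (c : ∀ i, U i ⟶ X)
  [∀ i, IsOpenImmersion (c i)] (m : ∀ i, U i ⟶ Y)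

theorem existsUnique_glue (hcov : ∀ x : X, ∃ i, x ∈ (c i).opensRange)
    (hov : ∀ i j, ∃ (k : ι) (a : U k ⟶ U i) (b : U k ⟶ U j), a ≫ c i = c k ∧ b ≫ c j = c k ∧
      (c k).opensRange = (c i).opensRange ⊓ (c j).opensRange ∧ a ≫ m i = m k ∧ b ≫ m j = m k) :
    ∃! p : X ⟶ Y, ∀ i, c i ≫ p = m i := by
  let 𝒰 : X.OpenCover := Scheme.Cover.mkOfCovers ι U c (fun x => by
    obtain ⟨i, hi⟩ := hcov x
    exact ⟨i, hi⟩)
  refine ⟨𝒰.glueMorphisms m fun i j => ?_, fun i => 𝒰.ι_glueMorphisms m _ i, fun p hp => ?_⟩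
  · obtain ⟨k, a, b, ha, hb, hk, ha', hb'⟩ := hov i j
    let e : U k ⟶ pullback (c i) (c j) := pullback.lift a b (ha.trans hb.symm)
    have he : e ≫ pullback.fst (c i) (c j) ≫ c i = c k := by rw [pullback.lift_fst_assoc, ha]
    have : IsOpenImmersion (e ≫ pullback.fst (c i) (c j) ≫ c i) := by rw [he]; infer_instance
    have : IsOpenImmersion e := IsOpenImmersion.of_comp e (pullback.fst (c i) (c j) ≫ c i)
    have : Epi e.base := by
      rw [TopCat.epi_iff_surjective]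
      intro z
      have hz : (pullback.fst (c i) (c j) ≫ c i).base z ∈ (c k).opensRange := by
        rw [hk]
        exact ⟨⟨_, rfl⟩, ⟨(pullback.snd (c i) (c j)).base z, by
          rw [← Scheme.Hom.comp_apply, ← pullback.condition]⟩⟩
      obtain ⟨w, hw⟩ := hz
      refine ⟨w, (pullback.fst (c i) (c j) ≫ c i).isOpenEmbedding.injective ?_⟩
      rw [← hw, ← Scheme.Hom.comp_apply, he]
    have : IsIso e := IsOpenImmersion.isIso e
    show pullback.fst (c i) (c j) ≫ m i = pullback.snd (c i) (c j) ≫ m j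
    rw [← cancel_epi e]
    show e ≫ pullback.fst (c i) (c j) ≫ m i = e ≫ pullback.snd (c i) (c j) ≫ m j
    rw [pullback.lift_fst_assoc, pullback.lift_snd_assoc, ha', hb']
  · exact 𝒰.hom_ext _ _ fun i => (hp i).trans (𝒰.ι_glueMorphisms m _ i).symm

theorem preimage_eq_opensRange (hcov : ∀ x : X, ∃ i, x ∈ (c i).opensRange) (p : X ⟶ Y)
    (i : ι) (V : Y.Opens)
    (h : ∀ j, (c j ≫ p) ⁻¹ᵁ V = c j ⁻¹ᵁ (c i).opensRange) : p ⁻¹ᵁ V = (c i).opensRange := by
  ext x
  obtain ⟨j, y, rfl⟩ := hcov x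
  exact SetLike.ext_iff.1 (h j) y

end Groth.Agent.EGA2
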