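import Groth.Agent.Lib.EGA2.ProjMap
import Groth.Agent.Lib.EGA2.Glue
import Groth.Prelude.Def_Cone

/-!
The retraction of the pointed cone onto `Proj`.
-/

set_option autoImplicit false

open CategoryTheory CategoryTheory.Limits AlgebraicGeometry HomogeneousLocalization

universe u

namespace Groth.Agent.EGA2

variable {R A : Type u} [CommRing R] [CommRing A] [Algebra R A]
  {𝒜 : ℕ → Submodule R A} [GradedAlgebra 𝒜]

instance {d : ℕ} {f : A} (hf : f ∈ 𝒜 d) (hd : 0 < d) : IsOpenImmersion (Cone.chart hf hd) := by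
  have : IsOpenImmersion (Cone.chart hf hd ≫ (Cone.pointed 𝒜).ι) := by
    rw [Cone.chart, IsOpenImmersion.lift_fac]; infer_instance
  exact IsOpenImmersion.of_comp _ (Cone.pointed 𝒜).ι

@[reassoc]
theorem cone_chart_ι {d : ℕ} {f : A} (hf : f ∈ 𝒜 d) (hd : 0 < d) :
    Cone.chart hf hd ≫ (Cone.pointed 𝒜).ι =
      Spec.map (CommRingCat.ofHom (algebraMap A (Localization.Away f))) :=
  IsOpenImmersion.lift_fac _ _ _

theorem cone_chart_opensRange {d : ℕ} {f : A} (hf : f ∈ 𝒜 d) (hd : 0 < d) :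
    (Cone.chart hf hd).opensRange = (Cone.pointed 𝒜).ι ⁻¹ᵁ Cone.coneOpen f := by
  apply (Scheme.Hom.image_injective (Cone.pointed 𝒜).ι)
  dsimp only
  rw [← Scheme.Hom.opensRange_comp, Scheme.Hom.image_preimage_eq_opensRange_inf,
    Scheme.Opens.opensRange_ι]
  simp only [cone_chart_ι]
  have h : (Spec.map (CommRingCat.ofHom (algebraMap A (Localization.Away f)))).opensRange =
      Cone.coneOpen f :=
    TopologicalSpace.Opens.ext (PrimeSpectrum.localization_away_comap_range (Localization.Away f) f)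
  rw [h, inf_eq_right.2]
  intro x hx hmem
  exact hx ((PrimeSpectrum.mem_zeroLocus _ _).mp hmem (mem_irr_of_mem 𝒜 hd hf))

theorem exists_mem_cone_chart (x : (Cone.pointed 𝒜 : Scheme.{u})) :
    ∃ i : (Σ' (f : A) (e : ℕ), 0 < e ∧ f ∈ 𝒜 e),
      x ∈ (Cone.chart i.2.2.2 i.2.2.1).opensRange := by
  by_contra h
  simp only [not_exists, cone_chart_opensRange] at h
  refine x.2 ((PrimeSpectrum.mem_zeroLocus _ _).mpr fun a ha => ?_)
  exact ((HomogeneousIdeal.toIdeal_irrelevant_le 𝒜).2 fun i hi y hy =>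
    not_not.1 (h (⟨y, i, hi, hy⟩ : Σ' (f : A) (e : ℕ), 0 < e ∧ f ∈ 𝒜 e))) ha

theorem awayLift_comp_algebraMap {A P : Type u} [CommRing A] [CommRing P] (g : A →+* P) (f : A)
    (hu : IsUnit (g f)) :
    (Localization.awayLift g f hu).comp (algebraMap A (Localization.Away f)) = g :=
  IsLocalization.Away.lift_comp f hu

theorem algebraMap_awayMap {e : ℕ} {f g : A} (hg : g ∈ 𝒜 e) {x : A} (hx : x = f * g)
    (hu : IsUnit (algebraMap A (Localization.Away x) f)) (z : Away 𝒜 f) :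
    algebraMap (Away 𝒜 x) (Localization.Away x) (awayMap 𝒜 hg hx z) =
      Localization.awayLift (algebraMap A (Localization.Away x)) f hu
        (algebraMap (Away 𝒜 f) (Localization.Away f) z) := by
  rw [HomogeneousLocalization.algebraMap_apply, HomogeneousLocalization.algebraMap_apply, val_awayMap]

theorem existsUnique_coneMap :
    ∃! π : (Cone.pointed 𝒜 : Scheme.{u}) ⟶ Proj 𝒜,
      ∀ (d : ℕ) (f : A) (hd : 0 < d) (hf : f ∈ 𝒜 d), Cone.chart hf hd ≫ π =
        Spec.map (CommRingCat.ofHom (algebraMap (Away 𝒜 f) (Localization.Away f))) ≫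
          Proj.awayι 𝒜 f hf hd := by
  have key : ∀ {e e' : ℕ} (he : 0 < e) (he' : 0 < e') {f g : A} (hf : f ∈ 𝒜 e) (hg : g ∈ 𝒜 e')
      {x : A} (hx : x = f * g) {k : ℕ} (hk : 0 < k) (hxk : x ∈ 𝒜 k),
      ∃ a : Spec (CommRingCat.of (Localization.Away x)) ⟶ Spec (CommRingCat.of (Localization.Away f)),
        a ≫ Cone.chart hf he = Cone.chart hxk hk ∧
        a ≫ Spec.map (CommRingCat.ofHom (algebraMap (Away 𝒜 f) (Localization.Away f))) ≫
            Proj.awayι 𝒜 f hf he =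
          Spec.map (CommRingCat.ofHom (algebraMap (Away 𝒜 x) (Localization.Away x))) ≫
            Proj.awayι 𝒜 x hxk hk := by
    intro e e' he he' f g hf hg x hx k hk hxk
    have hu : IsUnit (algebraMap A (Localization.Away x) f) :=
      isUnit_of_mul_isUnit_left (y := algebraMap A (Localization.Away x) g) (by
        rw [← map_mul, ← hx]; exact IsLocalization.Away.algebraMap_isUnit x)
    refine ⟨Spec.map (CommRingCat.ofHom (Localization.awayLift (algebraMap A _) f hu)), ?_, ?_⟩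
    · rw [← cancel_mono (Cone.pointed 𝒜).ι, Category.assoc, cone_chart_ι, cone_chart_ι, ← Spec.map_comp]
      rw [← CommRingCat.ofHom_comp, awayLift_comp_algebraMap]
    · have hc : Proj.awayι 𝒜 x hxk hk = Spec.map (CommRingCat.ofHom (awayMap 𝒜 hg hx)) ≫
          Proj.awayι 𝒜 f hf he := by
        rw [Proj.SpecMap_awayMap_awayι 𝒜 hf he hg hx]
        rw [← cancel_epi (Proj.basicOpenIsoSpec 𝒜 x hxk hk).hom, Proj.awayι, Iso.hom_inv_id_assoc,
          Proj.awayι, Proj.basicOpenIsoSpec_hom,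
          ← Proj.basicOpenIsoSpec_hom 𝒜 x (hx ▸ SetLike.mul_mem_graded hf hg)
            (he.trans_le (Nat.le_add_right _ _)), Iso.hom_inv_id_assoc]
      rw [hc]
      simp only [← Spec.map_comp_assoc]
      rw [← CommRingCat.ofHom_comp, ← CommRingCat.ofHom_comp]
      congr 2
      refine congrArg CommRingCat.ofHom (RingHom.ext fun z => ?_)
      simp only [RingHom.comp_apply]
      exact (algebraMap_awayMap hg hx hu z).symm
  have := existsUnique_glue
    (fun i : (Σ' (f : A) (e : ℕ), 0 < e ∧ f ∈ 𝒜 e) => Cone.chart i.2.2.2 i.2.2.1)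
    (fun i => Spec.map (CommRingCat.ofHom (algebraMap (Away 𝒜 i.1) (Localization.Away i.1))) ≫
      Proj.awayι 𝒜 i.1 i.2.2.2 i.2.2.1) exists_mem_cone_chart ?_
  · obtain ⟨p, hp, huniq⟩ := this
    exact ⟨p, fun d f hd hf => hp ⟨f, d, hd, hf⟩,
      fun q hq => huniq q fun i => hq i.2.1 i.1 i.2.2.1 i.2.2.2⟩
  rintro ⟨f, e, he, hf⟩ ⟨g, e', he', hg⟩
  have hk : 0 < e + e' := Nat.add_pos_left he _
  obtain ⟨a, ha, ha'⟩ := key he he' hf hg rfl hk (SetLike.mul_mem_graded hf hg)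
  obtain ⟨b, hb, hb'⟩ := key he' he hg hf (mul_comm f g) hk (SetLike.mul_mem_graded hf hg)
  refine ⟨⟨f * g, e + e', hk, SetLike.mul_mem_graded hf hg⟩, a, b, ha, hb, ?_, ha', hb'⟩
  simp only [cone_chart_opensRange]
  rw [Cone.coneOpen, Cone.coneOpen, Cone.coneOpen, PrimeSpectrum.basicOpen_mul]
  rfl

variable (π : (Cone.pointed 𝒜 : Scheme.{u}) ⟶ Proj 𝒜)
  (hπ : ∀ (d : ℕ) (f : A) (hd : 0 < d) (hf : f ∈ 𝒜 d), Cone.chart hf hd ≫ π =
    Spec.map (CommRingCat.ofHom (algebraMap (Away 𝒜 f) (Localization.Away f))) ≫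
      Proj.awayι 𝒜 f hf hd)

include hπ in
theorem coneMap_preimage {d : ℕ} (hd : 0 < d) {f : A} (hf : f ∈ 𝒜 d) :
    π ⁻¹ᵁ Proj.basicOpen 𝒜 f = (Cone.chart hf hd).opensRange := by
  refine preimage_eq_opensRange
    (fun i : (Σ' (f : A) (e : ℕ), 0 < e ∧ f ∈ 𝒜 e) => Cone.chart i.2.2.2 i.2.2.1)
    exists_mem_cone_chart π ⟨f, d, hd, hf⟩ _ ?_
  rintro ⟨g, e, he, hg⟩
  rw [hπ e g he hg]
  simp only [cone_chart_opensRange]
  rw [← Scheme.Hom.comp_preimage, cone_chart_ι, Scheme.Hom.comp_preimage,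
    Proj.awayι_preimage_basicOpen 𝒜 hg he hf hd]
  ext x
  show algebraMap (Away 𝒜 g) (Localization.Away g) (Away.isLocalizationElem hg hf) ∉ x.asIdeal ↔
    algebraMap A (Localization.Away g) f ∉ x.asIdeal
  have hu : IsUnit (algebraMap A (Localization.Away g) g ^ d) :=
    (IsLocalization.Away.algebraMap_isUnit g).pow _
  have key : algebraMap (Away 𝒜 g) (Localization.Away g) (Away.isLocalizationElem hg hf) *
      algebraMap A (Localization.Away g) g ^ d = algebraMap A (Localization.Away g) f ^ e := by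
    rw [Away.isLocalizationElem, HomogeneousLocalization.algebraMap_apply, Away.val_mk,
      Localization.mk_eq_mk', ← map_pow, ← map_pow]
    exact IsLocalization.mk'_spec _ _ _
  refine not_congr ⟨fun h => ?_, fun h => ?_⟩
  · exact x.2.mem_of_pow_mem e (key ▸ Ideal.mul_mem_right _ _ h)
  · exact (Ideal.mul_unit_mem_iff_mem _ hu).1 (key ▸ Ideal.pow_mem_of_mem _ h e he)

include hπ in
theorem coneMap_asHomogeneousIdeal (p : (Cone.pointed 𝒜 : Scheme.{u})) :
    (π.base p).asHomogeneousIdeal = (((Cone.pointed 𝒜).ι.base p).asIdeal).homogeneousCore 𝒜 := by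
  have hmem : ∀ (k : ℕ) (b : A), 0 < k → b ∈ 𝒜 k →
      (b ∈ (π.base p).asHomogeneousIdeal ↔ b ∈ ((Cone.pointed 𝒜).ι.base p).asIdeal) := by
    intro k b hk hb
    have := congrArg (fun U => p ∈ U) ((coneMap_preimage π hπ hk hb).trans (cone_chart_opensRange hb hk))
    exact not_iff_not.1 (Iff.of_eq this)
  obtain ⟨⟨h, e, he, hh⟩, hqh⟩ := TopologicalSpace.Opens.mem_iSup.1
    ((iSup_basicOpen_pos 𝒜).ge (Set.mem_univ (π.base p)))
  have hPh : h ∉ ((Cone.pointed 𝒜).ι.base p).asIdeal := fun h' => hqh ((hmem e h he hh).2 h')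
  refine HomogeneousIdeal.ext' fun k b hb => ?_
  have hbh := hmem (k + e) (b * h) (Nat.add_pos_right k he) (SetLike.mul_mem_graded hb hh)
  constructor
  · intro hbq
    refine Ideal.mem_homogeneousCore_of_homogeneous_of_mem ⟨k, hb⟩
      ((((Cone.pointed 𝒜).ι.base p).2.mem_or_mem ?_).resolve_right hPh)
    exact hbh.1 (Ideal.mul_mem_right h _ hbq)
  · intro hbP
    refine ((π.base p).isPrime.mem_or_mem (hbh.2 ?_)).resolve_right hqh
    exact Ideal.mul_mem_right _ _ (Ideal.toIdeal_homogeneousCore_le _ _ hbP)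

include hπ in
theorem isPullback_coneMap {d : ℕ} (hd : 0 < d) {f : A} (hf : f ∈ 𝒜 d) :
    IsPullback (Spec.map (CommRingCat.ofHom (algebraMap (Away 𝒜 f) (Localization.Away f))))
      (Cone.chart hf hd) (Proj.awayι 𝒜 f hf hd) π :=
  IsOpenImmersion.isPullback _ _ _ _ (hπ d f hd hf)
    (by rw [Proj.opensRange_awayι, coneMap_preimage π hπ hd hf])

end Groth.Agent.EGA2
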