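import Groth.Agent.Lib.EGA2.ProjMap
import Groth.Agent.Lib.EGA2.Glue

/-!
The morphism on the union of the `D₊(φ f)` induced by a ring homomorphism multiplying degrees by `d`.
-/

set_option autoImplicit false

open CategoryTheory CategoryTheory.Limits AlgebraicGeometry HomogeneousLocalization

universe u

namespace Groth.Agent.EGA2

variable {R A B : Type u} [CommRing R] [CommRing A] [Algebra R A]
  {𝒜 : ℕ → Submodule R A} [GradedAlgebra 𝒜] [CommRing B] [Algebra R B]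
  {ℬ : ℕ → Submodule R B} [GradedAlgebra ℬ]

theorem awayι_congr {f : A} {m m' : ℕ} (hf : f ∈ 𝒜 m) (hm : 0 < m) (hf' : f ∈ 𝒜 m') (hm' : 0 < m') :
    Proj.awayι 𝒜 f hf hm = Proj.awayι 𝒜 f hf' hm' := by
  rw [← cancel_epi (Proj.basicOpenIsoSpec 𝒜 f hf hm).hom, Proj.awayι, Iso.hom_inv_id_assoc,
    Proj.awayι, Proj.basicOpenIsoSpec_hom, ← Proj.basicOpenIsoSpec_hom 𝒜 f hf' hm',
    Iso.hom_inv_id_assoc]

variable (φ : A →+* B) {d : ℕ} (hdeg : ∀ (n : ℕ) (a : A), a ∈ 𝒜 n → φ a ∈ ℬ (n * d))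

/-- `a / f ^ n ↦ φ a / φ f ^ n`. -/
noncomputable def degAwayMap (f : A) : Away 𝒜 f →+* Away ℬ (φ f) :=
  have key : ∀ x : Away 𝒜 f, ∃ y : Away ℬ (φ f), y.val = Localization.awayMap φ f x.val := by
    intro x
    refine ⟨HomogeneousLocalization.mk ⟨x.deg * d, ⟨φ x.num, hdeg _ _ x.num_mem_deg⟩,
      ⟨φ x.den, hdeg _ _ x.den_mem_deg⟩, ?_⟩, ?_⟩
    · obtain ⟨k, hk⟩ := x.den_mem
      exact ⟨k, by show φ f ^ k = φ x.den; rw [← map_pow]; exact congrArg φ hk⟩
    · conv_rhs => rw [x.eq_num_div_den]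
      simp only [HomogeneousLocalization.val_mk, Localization.awayMap, IsLocalization.Away.map,
        Localization.mk_eq_mk', IsLocalization.map_mk']
  have hu : ∀ {y y' : Away ℬ (φ f)}, y.val = y'.val → y = y' := fun h => val_injective _ h
  { toFun := fun x => (key x).choose
    map_one' := hu (by rw [(key 1).choose_spec, val_one, map_one, val_one])
    map_mul' := fun x y => hu (by
      rw [(key (x * y)).choose_spec, val_mul, map_mul, val_mul, (key x).choose_spec,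
        (key y).choose_spec])
    map_zero' := hu (by rw [(key 0).choose_spec, val_zero, map_zero, val_zero])
    map_add' := fun x y => hu (by
      rw [(key (x + y)).choose_spec, val_add, map_add, val_add, (key x).choose_spec,
        (key y).choose_spec]) }

theorem val_degAwayMap (f : A) (x : Away 𝒜 f) :
    (degAwayMap φ hdeg f x).val = Localization.awayMap φ f x.val := by
  simp only [degAwayMap, RingHom.coe_mk, MonoidHom.coe_mk, OneHom.coe_mk]
  generalize_proofs h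
  exact h.choose_spec

theorem val_degAwayMap_mk {e : ℕ} {f : A} (hf : f ∈ 𝒜 e) (n : ℕ) (a : A) (ha : a ∈ 𝒜 (n • e)) :
    (degAwayMap φ hdeg f (Away.mk 𝒜 hf n a ha)).val =
      Localization.mk (φ a) ⟨φ f ^ n, pow_mem (Submonoid.mem_powers _) n⟩ := by
  rw [val_degAwayMap, Away.val_mk, Localization.awayMap, IsLocalization.Away.map,
    Localization.mk_eq_mk', IsLocalization.map_mk', Localization.mk_eq_mk']
  congr 1
  exact Subtype.ext (map_pow φ f n)

theorem degAwayMap_mk {e : ℕ} {f : A} (hf : f ∈ 𝒜 e) (n : ℕ) (a : A) (ha : a ∈ 𝒜 (n • e)) :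
    degAwayMap φ hdeg f (Away.mk 𝒜 hf n a ha) = Away.mk ℬ (hdeg e f hf) n (φ a)
      (by have := hdeg _ a ha; rwa [smul_eq_mul, mul_assoc] at this) := by
  apply val_injective
  rw [val_degAwayMap_mk, Away.val_mk]

theorem degAwayMap_comp_awayMap {e e' : ℕ} {f g : A} (hf : f ∈ 𝒜 e) (hg : g ∈ 𝒜 e') {x : A}
    (hx : x = f * g) (z : Away 𝒜 f) :
    degAwayMap φ hdeg x (awayMap 𝒜 hg hx z) =
      awayMap ℬ (hdeg e' g hg) (by rw [hx, map_mul]) (degAwayMap φ hdeg f z) := by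
  obtain ⟨n, a, ha, rfl⟩ := Away.mk_surjective 𝒜 hf z
  subst hx
  apply val_injective
  rw [awayMap_mk, degAwayMap_mk, degAwayMap_mk, Away.val_mk, awayMap_mk, Away.val_mk]
  simp only [map_mul, map_pow]

include hdeg in
theorem basicOpen_le_of_mem {e : ℕ} (he : 0 < e) {f : A} (hf : f ∈ 𝒜 e) :
    Proj.basicOpen ℬ (φ f) ≤
      ⨆ g : {g : A // ∃ k : ℕ, 0 < k ∧ g ∈ 𝒜 k}, Proj.basicOpen ℬ (φ g.1) :=
  le_iSup (fun g : {g : A // ∃ k : ℕ, 0 < k ∧ g ∈ 𝒜 k} => Proj.basicOpen ℬ (φ g.1)) ⟨f, e, he, hf⟩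

variable {G : (Proj ℬ).Opens}
  (hG : G = ⨆ g : {g : A // ∃ k : ℕ, 0 < k ∧ g ∈ 𝒜 k}, Proj.basicOpen ℬ (φ g.1)) (hd : 0 < d)

include hG in
/-- The chart `Spec ℬ_(φ f) ⟶ G`. -/
noncomputable def degChart {e : ℕ} (he : 0 < e) {f : A} (hf : f ∈ 𝒜 e) :
    Spec (CommRingCat.of (Away ℬ (φ f))) ⟶ (G : Scheme.{u}) :=
  IsOpenImmersion.lift G.ι (Proj.awayι ℬ (φ f) (hdeg e f hf) (Nat.mul_pos he hd)) (by
    rw [Scheme.Opens.range_ι, ← Scheme.Hom.coe_opensRange, Proj.opensRange_awayι, hG]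
    exact basicOpen_le_of_mem φ hdeg he hf)

@[reassoc]
theorem degChart_ι {e : ℕ} (he : 0 < e) {f : A} (hf : f ∈ 𝒜 e) :
    degChart φ hdeg hG hd he hf ≫ G.ι = Proj.awayι ℬ (φ f) (hdeg e f hf) (Nat.mul_pos he hd) :=
  IsOpenImmersion.lift_fac _ _ _

instance {e : ℕ} (he : 0 < e) {f : A} (hf : f ∈ 𝒜 e) :
    IsOpenImmersion (degChart φ hdeg hG hd he hf) := by
  have : IsOpenImmersion (degChart φ hdeg hG hd he hf ≫ G.ι) := by
    rw [degChart_ι]; infer_instance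
  exact IsOpenImmersion.of_comp _ G.ι

theorem opensRange_degChart {e : ℕ} (he : 0 < e) {f : A} (hf : f ∈ 𝒜 e) :
    (degChart φ hdeg hG hd he hf).opensRange = G.ι ⁻¹ᵁ Proj.basicOpen ℬ (φ f) := by
  apply (Scheme.Hom.image_injective G.ι)
  dsimp only
  rw [← Scheme.Hom.opensRange_comp, Scheme.Hom.image_preimage_eq_opensRange_inf,
    Scheme.Opens.opensRange_ι]
  simp only [degChart_ι, Proj.opensRange_awayι]
  refine (inf_eq_right.2 ?_).symm
  rw [hG]
  exact basicOpen_le_of_mem φ hdeg he hf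

include hG in
theorem exists_mem_degChart (x : (G : Scheme.{u})) :
    ∃ i : (Σ' (f : A) (e : ℕ), 0 < e ∧ f ∈ 𝒜 e),
      x ∈ (degChart φ hdeg hG hd i.2.2.1 i.2.2.2).opensRange := by
  have hx : G.ι.base x ∈ G := x.2
  simp only [hG] at hx
  obtain ⟨⟨f, e, he, hf⟩, hxf⟩ := TopologicalSpace.Opens.mem_iSup.1 hx
  exact ⟨⟨f, e, he, hf⟩, by rw [opensRange_degChart]; exact hxf⟩

theorem existsUnique_degMap :
    ∃! p : (G : Scheme.{u}) ⟶ Proj 𝒜, ∀ (e : ℕ) (f : A) (he : 0 < e) (hf : f ∈ 𝒜 e),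
      degChart φ hdeg hG hd he hf ≫ p =
        Spec.map (CommRingCat.ofHom (degAwayMap φ hdeg f)) ≫ Proj.awayι 𝒜 f hf he := by
  have := existsUnique_glue
    (fun i : (Σ' (f : A) (e : ℕ), 0 < e ∧ f ∈ 𝒜 e) => degChart φ hdeg hG hd i.2.2.1 i.2.2.2)
    (fun i => Spec.map (CommRingCat.ofHom (degAwayMap φ hdeg i.1)) ≫
      Proj.awayι 𝒜 i.1 i.2.2.2 i.2.2.1)
    (exists_mem_degChart φ hdeg hG hd) ?_
  · obtain ⟨p, hp, huniq⟩ := this
    exact ⟨p, fun e f he hf => hp ⟨f, e, he, hf⟩,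
      fun q hq => huniq q fun i => hq i.2.1 i.1 i.2.2.1 i.2.2.2⟩
  rintro ⟨f, e, he, hf⟩ ⟨g, e', he', hg⟩
  refine ⟨⟨f * g, e + e', Nat.add_pos_left he _, SetLike.mul_mem_graded hf hg⟩,
    Spec.map (CommRingCat.ofHom (awayMap ℬ (hdeg e' g hg) (map_mul φ f g))),
    Spec.map (CommRingCat.ofHom (awayMap ℬ (hdeg e f hf) ((map_mul φ f g).trans (mul_comm _ _)))),
    ?_, ?_, ?_, ?_, ?_⟩
  · rw [← cancel_mono G.ι, Category.assoc, degChart_ι, degChart_ι,
      Proj.SpecMap_awayMap_awayι ℬ (hdeg e f hf) (Nat.mul_pos he hd) (hdeg e' g hg) (map_mul φ f g)]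
    exact awayι_congr _ _ _ _
  · rw [← cancel_mono G.ι, Category.assoc, degChart_ι, degChart_ι,
      Proj.SpecMap_awayMap_awayι ℬ (hdeg e' g hg) (Nat.mul_pos he' hd) (hdeg e f hf)
        ((map_mul φ f g).trans (mul_comm _ _))]
    exact awayι_congr _ _ _ _
  · simp only [opensRange_degChart]
    rw [map_mul, Proj.basicOpen_mul]
    rfl
  · dsimp only
    rw [← (Proj.SpecMap_awayMap_awayι 𝒜 hf he hg (rfl : f * g = f * g)).trans (awayι_congr _ _ _ _),
      ← Spec.map_comp_assoc, ← Spec.map_comp_assoc]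
    congr 2
    ext z : 2
    exact (degAwayMap_comp_awayMap φ hdeg hf hg rfl z).symm
  · dsimp only
    rw [← (Proj.SpecMap_awayMap_awayι 𝒜 hg he' hf (mul_comm f g)).trans (awayι_congr _ _ _ _),
      ← Spec.map_comp_assoc, ← Spec.map_comp_assoc]
    congr 2
    ext z : 2
    exact (degAwayMap_comp_awayMap φ hdeg hg hf (mul_comm f g) z).symm

variable (p : (G : Scheme.{u}) ⟶ Proj 𝒜) (hp : ∀ (e : ℕ) (f : A) (he : 0 < e) (hf : f ∈ 𝒜 e),
      degChart φ hdeg hG hd he hf ≫ p =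
        Spec.map (CommRingCat.ofHom (degAwayMap φ hdeg f)) ≫ Proj.awayι 𝒜 f hf he)

include hp in
theorem degMap_preimage {e : ℕ} (he : 0 < e) {f : A} (hf : f ∈ 𝒜 e) :
    p ⁻¹ᵁ Proj.basicOpen 𝒜 f = (degChart φ hdeg hG hd he hf).opensRange := by
  refine preimage_eq_opensRange
    (fun i : (Σ' (f : A) (e : ℕ), 0 < e ∧ f ∈ 𝒜 e) => degChart φ hdeg hG hd i.2.2.1 i.2.2.2)
    (exists_mem_degChart φ hdeg hG hd) p ⟨f, e, he, hf⟩ _ ?_
  rintro ⟨g, e', he', hg⟩
  rw [hp e' g he' hg]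
  simp only [opensRange_degChart]
  rw [← Scheme.Hom.comp_preimage, degChart_ι, Scheme.Hom.comp_preimage,
    Proj.awayι_preimage_basicOpen 𝒜 hg he' hf he,
    Proj.awayι_preimage_basicOpen ℬ (hdeg e' g hg) (Nat.mul_pos he' hd) (hdeg e f hf)
      (Nat.mul_pos he hd)]
  ext x
  show degAwayMap φ hdeg g (Away.isLocalizationElem hg hf) ∉ x.asIdeal ↔
    Away.isLocalizationElem (hdeg e' g hg) (hdeg e f hf) ∉ x.asIdeal
  have hd' : d ≠ 0 := hd.ne'
  have key : (degAwayMap φ hdeg g (Away.isLocalizationElem hg hf)) ^ d =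
      Away.isLocalizationElem (hdeg e' g hg) (hdeg e f hf) := by
    apply val_injective
    rw [val_pow, Away.isLocalizationElem, Away.isLocalizationElem, val_degAwayMap_mk, Away.val_mk,
      Localization.mk_pow]
    congr 1
    · rw [map_pow, ← pow_mul, mul_comm]
    · exact Subtype.ext (by simp [← pow_mul, mul_comm])
  rw [← key]
  exact not_congr ⟨fun h => Ideal.pow_mem_of_mem _ h d hd, x.2.mem_of_pow_mem d⟩

include hp in
theorem isPullback_degMap {e : ℕ} (he : 0 < e) {f : A} (hf : f ∈ 𝒜 e) :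
    IsPullback (Spec.map (CommRingCat.ofHom (degAwayMap φ hdeg f)))
      (degChart φ hdeg hG hd he hf) (Proj.awayι 𝒜 f hf he) p :=
  IsOpenImmersion.isPullback _ _ _ _ (hp e f he hf)
    (by rw [Proj.opensRange_awayι, degMap_preimage φ hdeg hG hd p hp he hf])

include hp in
theorem degMap_of_forall_away (P : MorphismProperty Scheme.{u}) [IsZariskiLocalAtTarget P]
    (h : ∀ (e : ℕ) (_ : 0 < e) (f : A) (_ : f ∈ 𝒜 e),
      P (Spec.map (CommRingCat.ofHom (degAwayMap φ hdeg f)))) : P p := by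
  refine IsZariskiLocalAtTarget.of_openCover (Proj.affineOpenCover 𝒜).openCover fun i => ?_
  exact (P.arrow_mk_iso_iff (Arrow.isoMk ((isPullback_degMap φ hdeg hG hd p hp i.1.2 i.2.2).flip.isoPullback)
    (Iso.refl _) (by
      simp only [Arrow.mk_right, Arrow.mk_left, Arrow.mk_hom, Iso.refl_hom, Category.comp_id]
      exact IsPullback.isoPullback_hom_snd _))).1 (h _ i.1.2 _ i.2.2)

end Groth.Agent.EGA2
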