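import Groth.Agent.Lib.EGA2.ProjMap
import Mathlib.RingTheory.Ideal.Quotient.Operations

/-!
Dehomogenisation `B → B_(f)` for `f` of degree one; its kernel is `(f - 1)`.
-/

set_option autoImplicit false

open DirectSum HomogeneousLocalization

universe u

namespace Groth.Agent.EGA2

variable {R B : Type u} [CommRing R] [CommRing B] [Algebra R B]
  (ℬ : ℕ → Submodule R B) [GradedAlgebra ℬ] {f : B} (hf : f ∈ ℬ 1)

/-- `x ↦ x / f ^ n` on `ℬ n`. -/
noncomputable def dehomPiece (n : ℕ) : ℬ n →+ Away ℬ f :=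
  AddMonoidHom.mk' (fun x => Away.mk ℬ hf n x.1 (by simp)) fun x y => by
    apply val_injective
    rw [val_add, Away.val_mk, Away.val_mk, Away.val_mk, Submodule.coe_add, Localization.add_mk_self]

theorem val_dehomPiece (n : ℕ) (x : ℬ n) :
    (dehomPiece ℬ hf n x).val = Localization.mk x.1 ⟨f ^ n, pow_mem (Submonoid.mem_powers f) n⟩ :=
  Away.val_mk _ _ hf _ _

/-- The dehomogenisation map. -/
noncomputable def dehom : B →+* Away ℬ f :=
  (DirectSum.toSemiring (dehomPiece ℬ hf)
    (by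
      apply val_injective
      rw [val_dehomPiece, val_one, ← Localization.mk_one]
      congr 1
      exact Subtype.ext (pow_zero f))
    (fun {i j} x y => by
      apply val_injective
      rw [val_mul, val_dehomPiece, val_dehomPiece, val_dehomPiece, Localization.mk_mul]
      congr 1
      exact Subtype.ext (pow_add f i j))).comp (DirectSum.decomposeRingEquiv ℬ).toRingHom

theorem dehom_of_mem {n : ℕ} {x : B} (hx : x ∈ ℬ n) :
    dehom ℬ hf x = Away.mk ℬ hf n x (by simpa using hx) := by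
  simp only [dehom, RingHom.comp_apply, RingEquiv.toRingHom_eq_coe, RingHom.coe_coe]
  erw [DirectSum.decompose_of_mem ℬ hx, DirectSum.toSemiring_of]
  rfl

theorem dehom_self : dehom ℬ hf f = 1 := by
  rw [dehom_of_mem ℬ hf hf]
  apply val_injective
  rw [Away.val_mk, val_one, Localization.mk_eq_mk']
  simp only [pow_one]
  exact IsLocalization.mk'_self _ _

theorem dehom_surjective : Function.Surjective (dehom ℬ hf) := by
  intro x
  obtain ⟨n, b, hb, rfl⟩ := Away.mk_surjective ℬ hf x
  exact ⟨b, dehom_of_mem ℬ hf (by simpa using hb)⟩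

include hf in
theorem exists_homogenize (b : B) :
    ∃ N, ∀ M, N ≤ M → ∃ c ∈ ℬ M, b - c ∈ Ideal.span {f - 1} := by
  have hpow : ∀ (k : ℕ) (x : B), x - f ^ k * x ∈ Ideal.span {f - 1} := fun k x => by
    rw [show x - f ^ k * x = -(f ^ k - 1 ^ k) * x by ring]
    exact Ideal.mul_mem_right _ _ (neg_mem (Ideal.mem_span_singleton.2 (sub_dvd_pow_sub_pow f 1 k)))
  induction b using DirectSum.Decomposition.inductionOn ℬ with
  | zero => exact ⟨0, fun M _ => ⟨0, zero_mem _, by simp⟩⟩
  | @homogeneous n x =>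
    refine ⟨n, fun M hM => ⟨f ^ (M - n) * x, ?_, hpow _ _⟩⟩
    have := SetLike.mul_mem_graded (SetLike.pow_mem_graded (M - n) hf) x.2
    rwa [smul_eq_mul, mul_one, Nat.sub_add_cancel hM] at this
  | add x y hx hy =>
    obtain ⟨N, hN⟩ := hx
    obtain ⟨N', hN'⟩ := hy
    refine ⟨max N N', fun M hM => ?_⟩
    obtain ⟨c, hc, hc'⟩ := hN M (le_trans (le_max_left _ _) hM)
    obtain ⟨c₂, hc₂, hc₂'⟩ := hN' M (le_trans (le_max_right _ _) hM)
    exact ⟨c + c₂, add_mem hc hc₂, by rw [add_sub_add_comm]; exact add_mem hc' hc₂'⟩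

theorem ker_dehom : RingHom.ker (dehom ℬ hf) = Ideal.span {f - 1} := by
  refine le_antisymm (fun b hb => ?_) ?_
  · obtain ⟨N, hN⟩ := exists_homogenize ℬ hf b
    obtain ⟨c, hc, hbc⟩ := hN N le_rfl
    have hspan : ∀ y ∈ Ideal.span {f - 1}, dehom ℬ hf y = 0 := fun y hy => by
      obtain ⟨z, rfl⟩ := Ideal.mem_span_singleton.1 hy
      rw [map_mul, map_sub, dehom_self, map_one, sub_self, zero_mul]
    have h0 : dehom ℬ hf c = 0 := by
      have := hspan _ hbc
      rw [map_sub, RingHom.mem_ker.1 hb, zero_sub, neg_eq_zero] at this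
      exact this
    rw [dehom_of_mem ℬ hf hc, away_mk_eq_zero_iff] at h0
    obtain ⟨k, hk⟩ := h0
    have hc0 : c ∈ Ideal.span {f - 1} := by
      rw [show c = -(f ^ k - 1 ^ k) * c by rw [neg_sub, sub_mul, hk, sub_zero, one_pow, one_mul]]
      exact Ideal.mul_mem_right _ _ (neg_mem (Ideal.mem_span_singleton.2 (sub_dvd_pow_sub_pow f 1 k)))
    simpa using add_mem hbc hc0
  · rw [Ideal.span_singleton_le_iff_mem, RingHom.mem_ker, map_sub, dehom_self, map_one, sub_self]

end Groth.Agent.EGA2
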