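import Groth.Agent.Lib.EGA2.Graded
import Mathlib.Algebra.Polynomial.AlgebraMap
import Mathlib.Algebra.Algebra.Operations

/-!
The graded algebra `⊕ₙ A_{≥ n}` attached to a graded algebra `A`, inside `A[X]`.
-/

set_option autoImplicit false

open DirectSum Pointwise

universe u

namespace Groth.Agent.EGA2

variable {R A B : Type u} [CommRing R] [CommRing A] [Algebra R A]
  (𝒜 : ℕ → Submodule R A) [GradedAlgebra 𝒜]

/-- `A_{≥ n}`. -/
def geSub (n : ℕ) : Submodule R A := ⨆ (m : ℕ) (_ : n ≤ m), 𝒜 m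

theorem le_geSub {n m : ℕ} (h : n ≤ m) : 𝒜 m ≤ geSub 𝒜 n := le_iSup₂ (f := fun m _ => 𝒜 m) m h

theorem mem_geSub_iff {n : ℕ} {a : A} :
    a ∈ geSub 𝒜 n ↔ ∀ i < n, (decompose 𝒜 a i : A) = 0 := by
  constructor
  · intro ha i hi
    revert i
    refine Submodule.iSup_induction _ (motive := fun a => ∀ i < n, (decompose 𝒜 a i : A) = 0) ha
      (fun m x hx => ?_) (by simp) fun x y hx hy i hi => by simp [hx i hi, hy i hi]
    rcases Classical.em (n ≤ m) with hm | hm
    · rw [iSup_pos hm] at hx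
      exact fun i hi => decompose_of_mem_ne 𝒜 hx (by omega)
    · rw [iSup_neg hm, Submodule.mem_bot] at hx
      simp [hx]
  · intro h
    classical
    rw [← DirectSum.sum_support_decompose 𝒜 a]
    refine sum_mem fun i _ => ?_
    by_cases hi : n ≤ i
    · exact le_geSub 𝒜 hi (decompose 𝒜 a i).2
    · rw [h i (by omega)]; exact zero_mem _

theorem geSub_one : geSub 𝒜 1 = (HomogeneousIdeal.irrelevant 𝒜).toIdeal.restrictScalars R := by
  ext a
  rw [mem_geSub_iff, Submodule.restrictScalars_mem, mem_irr_iff]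
  exact ⟨fun h => h 0 Nat.one_pos, fun h i hi => (Nat.lt_one_iff.1 hi) ▸ h⟩

theorem geSub_mul_le (m n : ℕ) : geSub 𝒜 m * geSub 𝒜 n ≤ geSub 𝒜 (m + n) := by
  simp only [geSub, Submodule.iSup_mul, Submodule.mul_iSup, iSup_le_iff]
  intro i hi j hj
  refine le_trans (Submodule.mul_le.2 fun a ha b hb => SetLike.GradedMul.mul_mem ha hb) ?_
  exact le_geSub 𝒜 (by omega)

/-- A product lying in degree `m + n` of elements of `A_{≥ m}` and `A_{≥ n}`. -/
theorem decompose_mul_min {m n : ℕ} {a b : A} (ha : a ∈ geSub 𝒜 m) (hb : b ∈ geSub 𝒜 n) :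
    (decompose 𝒜 (a * b) (m + n) : A) = decompose 𝒜 a m * decompose 𝒜 b n := by
  rw [mem_geSub_iff] at ha hb
  classical
  conv_lhs => rw [← DirectSum.sum_support_decompose 𝒜 a]
  rw [Finset.sum_mul, decompose_sum, DFinsupp.finsetSum_apply, AddSubmonoidClass.coe_finsetSum]
  have hterm : ∀ i, (decompose 𝒜 ((decompose 𝒜 a i : A) * b) (m + n) : A) =
      if i = m then (decompose 𝒜 a m : A) * decompose 𝒜 b n else 0 := by
    intro i
    rw [coe_decompose_mul_of_left_mem 𝒜 (m + n) (decompose 𝒜 a i).2]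
    rcases lt_trichotomy i m with h | rfl | h
    · rw [if_pos (by omega : i ≤ m + n), if_neg (by omega), ha i h, zero_mul]
    · rw [if_pos (by omega : i ≤ i + n), if_pos rfl, Nat.add_sub_cancel_left]
    · rw [if_neg (by omega : ¬ i = m)]
      split
      · rw [hb _ (by omega), mul_zero]
      · rfl
  simp only [hterm, Finset.sum_ite_eq']
  split
  · rfl
  · rename_i h
    rw [DFinsupp.notMem_support_iff] at h
    simp [h]

variable [CommRing B] [Algebra R B] {ℬ : ℕ → Submodule R B} [GradedAlgebra ℬ]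
  {φ : B →ₐ[R] Polynomial A}
  (hdeg : ∀ n : ℕ, Submodule.map φ.toLinearMap (ℬ n) =
    Submodule.map ((Polynomial.monomial n : A →ₗ[A] Polynomial A).restrictScalars R)
      (⨆ (m : ℕ) (_ : n ≤ m), 𝒜 m))

include hdeg

theorem natural_image {n : ℕ} {b : B} (hb : b ∈ ℬ n) :
    ∃ a ∈ geSub 𝒜 n, φ b = Polynomial.monomial n a := by
  obtain ⟨a, ha, h⟩ := (hdeg n).le (Submodule.mem_map_of_mem hb)
  exact ⟨a, ha, h.symm⟩

theorem natural_preimage {n : ℕ} {a : A} (ha : a ∈ geSub 𝒜 n) :
    ∃ b ∈ ℬ n, φ b = Polynomial.monomial n a :=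
  (hdeg n).ge (Submodule.mem_map_of_mem ha)

theorem natural_coeff_mem {n : ℕ} {b : B} (hb : b ∈ ℬ n) : (φ b).coeff n ∈ geSub 𝒜 n := by
  obtain ⟨a, ha, h⟩ := natural_image 𝒜 hdeg hb
  rwa [h, Polynomial.coeff_monomial_same]

end Groth.Agent.EGA2

namespace Groth.Agent.EGA2

variable {R A B : Type u} [CommRing R] [CommRing A] [Algebra R A]
  (𝒜 : ℕ → Submodule R A) [GradedAlgebra 𝒜]

/-- `P ↦ Xⁿ P`. -/
noncomputable def monoSub (n : ℕ) (P : Submodule R A) : Submodule R (Polynomial A) :=
  Submodule.map ((Polynomial.monomial n : A →ₗ[A] Polynomial A).restrictScalars R) P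

theorem monoSub_injective (n : ℕ) : Function.Injective (monoSub (R := R) (A := A) n) :=
  Submodule.map_injective_of_injective (Polynomial.monomial_injective n)

theorem monoSub_mul (m n : ℕ) (P Q : Submodule R A) :
    monoSub m P * monoSub n Q = monoSub (m + n) (P * Q) := by
  refine le_antisymm (Submodule.mul_le.2 ?_) (Submodule.map_le_iff_le_comap.2 (Submodule.mul_le.2 ?_))
  · rintro _ ⟨a, ha, rfl⟩ _ ⟨b, hb, rfl⟩
    exact ⟨a * b, Submodule.mul_mem_mul ha hb, by simp [Polynomial.monomial_mul_monomial]⟩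
  · intro a ha b hb
    rw [Submodule.mem_comap]
    have : ((Polynomial.monomial (m + n) : A →ₗ[A] Polynomial A).restrictScalars R) (a * b) =
        Polynomial.monomial m a * Polynomial.monomial n b := by
      simp [Polynomial.monomial_mul_monomial]
    rw [this]
    exact Submodule.mul_mem_mul ⟨a, ha, rfl⟩ ⟨b, hb, rfl⟩

variable [CommRing B] [Algebra R B] {ℬ : ℕ → Submodule R B} [GradedAlgebra ℬ]
  {φ : B →ₐ[R] Polynomial A}
  (hdeg : ∀ n : ℕ, Submodule.map φ.toLinearMap (ℬ n) =
    Submodule.map ((Polynomial.monomial n : A →ₗ[A] Polynomial A).restrictScalars R)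
      (⨆ (m : ℕ) (_ : n ≤ m), 𝒜 m))

include hdeg

theorem natural_mul_eq_iff (hφ : Function.Injective φ) (n : ℕ) :
    ℬ (n + 1) = ℬ 1 * ℬ n ↔ geSub 𝒜 (n + 1) = geSub 𝒜 1 * geSub 𝒜 n := by
  rw [← (Submodule.map_injective_of_injective (f := φ.toLinearMap) hφ).eq_iff, Submodule.map_mul,
    hdeg, hdeg, hdeg]
  change monoSub (n + 1) (geSub 𝒜 (n + 1)) = monoSub 1 (geSub 𝒜 1) * monoSub n (geSub 𝒜 n) ↔ _
  rw [monoSub_mul, Nat.add_comm 1 n]
  exact (monoSub_injective (n + 1)).eq_iff

theorem natural_pow_map {n : ℕ} (hn : 1 ≤ n) :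
    Submodule.map φ.toLinearMap (ℬ 1 ^ n) = monoSub n (geSub 𝒜 1 ^ n) := by
  induction n, hn using Nat.le_induction with
  | base => rw [pow_one, pow_one, hdeg]; rfl
  | succ n hn ih =>
    rw [pow_succ, Submodule.map_mul, ih, hdeg, pow_succ]
    exact monoSub_mul n 1 _ _

theorem natural_pow_eq_iff (hφ : Function.Injective φ) {n : ℕ} (hn : 1 ≤ n) :
    ℬ n = ℬ 1 ^ n ↔ geSub 𝒜 n = geSub 𝒜 1 ^ n := by
  rw [← (Submodule.map_injective_of_injective (f := φ.toLinearMap) hφ).eq_iff,
    natural_pow_map 𝒜 hdeg hn, hdeg]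
  exact (monoSub_injective n).eq_iff

end Groth.Agent.EGA2

namespace Groth.Agent.EGA2

variable {R A B : Type u} [CommRing R] [CommRing A] [Algebra R A]
  (𝒜 : ℕ → Submodule R A) [GradedAlgebra 𝒜]
  [CommRing B] [Algebra R B] {ℬ : ℕ → Submodule R B} [GradedAlgebra ℬ]
  {φ : B →ₐ[R] Polynomial A}
  (hdeg : ∀ n : ℕ, Submodule.map φ.toLinearMap (ℬ n) =
    Submodule.map ((Polynomial.monomial n : A →ₗ[A] Polynomial A).restrictScalars R)
      (⨆ (m : ℕ) (_ : n ≤ m), 𝒜 m))

include hdeg

/-- `ℬ 0` is all of `A`. -/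
theorem natural_zero_bijective (hφ : Function.Injective φ) :
    Function.Bijective ((Polynomial.evalRingHom (0 : A)).comp
      (φ.toRingHom.comp (algebraMap (ℬ 0) B))) := by
  constructor
  · intro x y h
    obtain ⟨a, -, ha⟩ := natural_image 𝒜 hdeg x.2
    obtain ⟨b, -, hb⟩ := natural_image 𝒜 hdeg y.2
    refine Subtype.ext (hφ ?_)
    have h' : (φ (x : B)).eval 0 = (φ (y : B)).eval 0 := h
    rw [ha, hb, Polynomial.eval_monomial, Polynomial.eval_monomial, pow_zero, mul_one, mul_one] at h'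
    rw [ha, hb, h']
  · intro a
    obtain ⟨b, hb, hba⟩ := natural_preimage 𝒜 hdeg
      (show a ∈ geSub 𝒜 0 from (mem_geSub_iff 𝒜).2 fun i hi => absurd hi (Nat.not_lt_zero i))
    refine ⟨⟨b, hb⟩, ?_⟩
    show (φ b).eval 0 = a
    rw [hba, Polynomial.eval_monomial, pow_zero, mul_one]

theorem natural_finiteType (hφ : Function.Injective φ) [Algebra.FiniteType (𝒜 0) A] :
    Algebra.FiniteType (ℬ 0) B := by
  classical
  obtain ⟨s, hE, -, hirr⟩ := exists_homogeneous_gens 𝒜
  choose! d hd hmem using hE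
  let T0 : Set B := {b | ∃ f ∈ s, ∃ j, 1 ≤ j ∧ j ≤ d f ∧ φ b = Polynomial.monomial j f}
  have hT0 : T0.Finite := by
    refine Set.Finite.of_finite_image ?_ hφ.injOn
    refine Set.Finite.subset ((s ×ˢ Finset.range (s.sup d + 1)).image
      fun p => Polynomial.monomial p.2 p.1).finite_toSet ?_
    rintro _ ⟨b, ⟨f, hf, j, -, hjd, hb⟩, rfl⟩
    rw [Finset.coe_image]
    exact ⟨(f, j), Finset.mem_product.2 ⟨hf, Finset.mem_range.2
      (Nat.lt_succ_of_le (hjd.trans (Finset.le_sup hf)))⟩, hb.symm⟩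
  obtain ⟨t, ht⟩ := hT0.exists_finset_coe
  refine ⟨⟨t, ?_⟩⟩
  rw [ht]
  let T := Algebra.adjoin (ℬ 0) T0
  have key : ∀ m, ∀ a ∈ 𝒜 m, ∀ n, n ≤ m → ∃ b ∈ T, φ b = Polynomial.monomial n a := by
    intro m
    induction m using Nat.strong_induction_on with
    | _ m ih =>
      intro a ha n hn
      rcases Nat.eq_zero_or_pos n with rfl | hn0
      · obtain ⟨b, hb, hba⟩ := natural_preimage 𝒜 hdeg (le_geSub 𝒜 (Nat.zero_le m) ha)
        exact ⟨b, T.algebraMap_mem ⟨b, hb⟩, hba⟩
      · have has : a ∈ Ideal.span (s : Set A) := hirr ▸ mem_irr_of_mem 𝒜 (hn0.trans_le hn) ha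
        rw [← decompose_of_mem_same 𝒜 ha]
        have main : ∀ y ∈ Ideal.span (s : Set A), ∀ z : A,
            ∃ b ∈ T, φ b = Polynomial.monomial n (decompose 𝒜 (z * y) m : A) := by
          intro y hy
          induction hy using Submodule.span_induction with
          | mem f hf =>
            intro z
            rw [coe_decompose_mul_of_right_mem 𝒜 m (hmem f hf)]
            split
            · rename_i hle
              obtain ⟨b, hb, hb'⟩ := ih (m - d f) (by have := hd f hf; omega) _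
                (decompose 𝒜 z (m - d f)).2 (n - min n (d f)) (by omega)
              obtain ⟨g, -, hg'⟩ := natural_preimage 𝒜 hdeg
                (le_geSub 𝒜 (min_le_right n (d f)) (hmem f hf))
              refine ⟨b * g, mul_mem hb (Algebra.subset_adjoin
                ⟨f, hf, _, by have := hd f hf; omega, min_le_right _ _, hg'⟩), ?_⟩
              rw [map_mul, hb', hg', Polynomial.monomial_mul_monomial, Nat.sub_add_cancel (min_le_left _ _)]
            · exact ⟨0, zero_mem _, by simp⟩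
          | zero => intro z; exact ⟨0, zero_mem _, by simp⟩
          | add x y _ _ hx hy =>
            intro z
            obtain ⟨b, hb, hb'⟩ := hx z
            obtain ⟨c, hc, hc'⟩ := hy z
            exact ⟨b + c, add_mem hb hc, by simp [mul_add, hb', hc']⟩
          | smul c x _ hx => intro z; simpa [smul_eq_mul, mul_assoc] using hx (z * c)
        simpa using main a has 1
  rw [eq_top_iff]
  intro b hbtop
  clear hbtop
  induction b using DirectSum.Decomposition.inductionOn ℬ with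
  | zero => exact zero_mem _
  | @homogeneous n x =>
    obtain ⟨a, ha, hxa⟩ := natural_image 𝒜 hdeg x.2
    have hex : ∃ c ∈ T, φ c = Polynomial.monomial n a := by
      rw [← DirectSum.sum_support_decompose 𝒜 a]
      refine Finset.sum_induction (fun i => (decompose 𝒜 a i : A))
        (fun a => ∃ c ∈ T, φ c = Polynomial.monomial n a) ?_ ⟨0, zero_mem _, by simp⟩ fun i hi => ?_
      · rintro u v ⟨b, hb, hb'⟩ ⟨c, hc, hc'⟩
        exact ⟨b + c, add_mem hb hc, by simp [hb', hc']⟩
      · refine key i _ (decompose 𝒜 a i).2 n ?_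
        by_contra hlt
        rw [DFinsupp.mem_support_iff] at hi
        exact hi (Subtype.ext ((mem_geSub_iff 𝒜).1 ha i (by omega)))
    obtain ⟨c, hc, hc'⟩ := hex
    rwa [← hφ (hc'.trans hxa.symm)]
  | add x y hx hy => exact add_mem hx hy

theorem finiteType_of_natural (hφ : Function.Injective φ) [Algebra.FiniteType (ℬ 0) B] :
    Algebra.FiniteType (𝒜 0) A := by
  classical
  obtain ⟨s, hE, -, hirr⟩ := exists_homogeneous_gens ℬ
  refine (irrelevant_fg_iff 𝒜).1 ⟨s.image fun g => (φ g).coeff 1, le_antisymm ?_ fun a ha => ?_⟩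
  · rw [Submodule.span_le]
    intro x hx
    obtain ⟨g, hg, rfl⟩ := Finset.mem_image.1 hx
    obtain ⟨d, hd, hgd⟩ := hE g hg
    obtain ⟨a, ha, hga⟩ := natural_image 𝒜 hdeg hgd
    rw [hga, Polynomial.coeff_monomial]
    split
    · subst d
      exact (geSub_one 𝒜).le ha
    · exact zero_mem _
  · obtain ⟨b, hb, hba⟩ := natural_preimage 𝒜 hdeg ((geSub_one 𝒜).ge ha)
    have hbs : b ∈ Ideal.span (s : Set B) := hirr ▸ mem_irr_of_mem ℬ Nat.one_pos hb
    have main : ∀ y ∈ Ideal.span (s : Set B), ∀ z : B,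
        (φ (z * y)).coeff 1 ∈ Ideal.span (↑(s.image fun g => (φ g).coeff 1) : Set A) := by
      intro y hy
      induction hy using Submodule.span_induction with
      | mem g hg =>
        intro z
        obtain ⟨d, hd, hgd⟩ := hE g hg
        obtain ⟨a, -, hga⟩ := natural_image 𝒜 hdeg hgd
        rw [map_mul, hga, ← Polynomial.C_mul_X_pow_eq_monomial, ← mul_assoc,
          Polynomial.coeff_mul_X_pow']
        split
        · obtain rfl : d = 1 := by omega
          rw [Polynomial.coeff_mul_C]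
          refine Ideal.mul_mem_left _ _ (Ideal.subset_span (Finset.mem_image.2 ⟨g, hg, ?_⟩))
          rw [hga, Polynomial.coeff_monomial_same]
        · exact zero_mem _
      | zero => intro z; simp
      | add x y _ _ hx hy =>
        intro z
        rw [mul_add, map_add, Polynomial.coeff_add]
        exact add_mem (hx z) (hy z)
      | smul c x _ hx => intro z; simpa [smul_eq_mul, mul_assoc] using hx (z * c)
    have := main b hbs 1
    rwa [one_mul, hba, Polynomial.coeff_monomial_same] at this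

end Groth.Agent.EGA2
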