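import Groth.Agent.Lib.EGA2.DegHom
import Groth.Prelude.Def_PCone

/-!
`PCone.dom` as an instance of the general construction.
-/

set_option autoImplicit false

open CategoryTheory CategoryTheory.Limits AlgebraicGeometry HomogeneousLocalization

universe u

namespace Groth.Agent.EGA2

variable {R A B : Type u} [CommRing R] [CommRing A] [Algebra R A]
  {𝒜 : ℕ → Submodule R A} [GradedAlgebra 𝒜] [CommRing B] [Algebra R B]
  {ℬ : ℕ → Submodule R B} [GradedAlgebra ℬ] (φ : 𝒜 →+*ᵍ ℬ)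

theorem graded_hdeg (n : ℕ) (a : A) (ha : a ∈ 𝒜 n) : φ.toRingHom a ∈ ℬ (n * 1) := by
  rw [mul_one]; exact φ.2 ha

theorem degAwayMap_graded {e : ℕ} {f : A} (hf : f ∈ 𝒜 e) :
    degAwayMap φ.toRingHom (graded_hdeg φ) f = Away.map φ f := by
  ext x : 1
  obtain ⟨n, a, ha, rfl⟩ := Away.mk_surjective 𝒜 hf x
  rw [Away.map_mk]
  exact val_injective _ ((val_degAwayMap_mk _ (graded_hdeg φ) hf n a ha).trans (Away.val_mk _ n _ _ _).symm)

theorem pcone_dom_eq : PCone.dom φ =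
    ⨆ g : {g : A // ∃ k : ℕ, 0 < k ∧ g ∈ 𝒜 k}, Proj.basicOpen ℬ (φ.toRingHom g.1) := rfl

theorem chart_eq_degChart {e : ℕ} (he : 0 < e) {f : A} (hf : f ∈ 𝒜 e) :
    PCone.chart φ hf he =
      degChart φ.toRingHom (graded_hdeg φ) (pcone_dom_eq φ) Nat.one_pos he hf := by
  rw [← cancel_mono (PCone.dom φ).ι, degChart_ι]
  refine (IsOpenImmersion.lift_fac _ _ _).trans ?_
  exact awayι_congr _ _ _ _

variable {φ} in
/-- Translate the chart description of a retraction. -/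
theorem pcone_hp {p : (PCone.dom φ : Scheme.{u}) ⟶ Proj 𝒜}
    (hp : ∀ (d : ℕ) (f : A) (hd : 0 < d) (hf : f ∈ 𝒜 d), PCone.chart φ hf hd ≫ p =
      Spec.map (CommRingCat.ofHom (Away.map φ f)) ≫ Proj.awayι 𝒜 f hf hd) :
    ∀ (e : ℕ) (f : A) (he : 0 < e) (hf : f ∈ 𝒜 e),
      degChart φ.toRingHom (graded_hdeg φ) (pcone_dom_eq φ) Nat.one_pos he hf ≫ p =
        Spec.map (CommRingCat.ofHom (degAwayMap φ.toRingHom (graded_hdeg φ) f)) ≫
          Proj.awayι 𝒜 f hf he := by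
  intro e f he hf
  rw [← chart_eq_degChart φ he hf, hp e f he hf, degAwayMap_graded φ hf]

theorem pcone_preimage {p : (PCone.dom φ : Scheme.{u}) ⟶ Proj 𝒜}
    (hp : ∀ (d : ℕ) (f : A) (hd : 0 < d) (hf : f ∈ 𝒜 d), PCone.chart φ hf hd ≫ p =
      Spec.map (CommRingCat.ofHom (Away.map φ f)) ≫ Proj.awayι 𝒜 f hf hd)
    {e : ℕ} (he : 0 < e) {f : A} (hf : f ∈ 𝒜 e) :
    p ⁻¹ᵁ Proj.basicOpen 𝒜 f = (PCone.dom φ).ι ⁻¹ᵁ Proj.basicOpen ℬ (φ f) :=
  (degMap_preimage _ _ (pcone_dom_eq φ) Nat.one_pos p (pcone_hp hp) he hf).trans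
    (opensRange_degChart _ _ (pcone_dom_eq φ) Nat.one_pos he hf)

theorem pcone_of_forall_away {p : (PCone.dom φ : Scheme.{u}) ⟶ Proj 𝒜}
    (hp : ∀ (d : ℕ) (f : A) (hd : 0 < d) (hf : f ∈ 𝒜 d), PCone.chart φ hf hd ≫ p =
      Spec.map (CommRingCat.ofHom (Away.map φ f)) ≫ Proj.awayι 𝒜 f hf hd)
    (P : MorphismProperty Scheme.{u}) [IsZariskiLocalAtTarget P]
    (h : ∀ (e : ℕ) (_ : 0 < e) (f : A) (_ : f ∈ 𝒜 e),
      P (Spec.map (CommRingCat.ofHom (Away.map φ f)))) : P p := by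
  refine degMap_of_forall_away _ _ (pcone_dom_eq φ) Nat.one_pos p (pcone_hp hp) P fun e he f hf => ?_
  rw [degAwayMap_graded φ hf]
  exact h e he f hf

end Groth.Agent.EGA2
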