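import Groth.Agent.Lib.EGA2.ProjSpectrum
import Mathlib.Algebra.Polynomial.AlgebraMap
import Mathlib.AlgebraicGeometry.ProjectiveSpectrum.Functor

/-!
The graded algebra `B = A[z]`, `z` of degree one.
-/

set_option autoImplicit false

open DirectSum

universe u

namespace Groth.Agent.EGA2

variable {R A B : Type u} [CommRing R] [CommRing A] [Algebra R A]
  {𝒜 : ℕ → Submodule R A} [GradedAlgebra 𝒜] [CommRing B] [Algebra R B]
  {ℬ : ℕ → Submodule R B} [GradedAlgebra ℬ] [Algebra A B]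
  {φ : 𝒜 →+*ᵍ ℬ} {z : B}

theorem sub_retract_mem_span (hφ : ∀ a : A, φ a = algebraMap A B a)
    (hhat : Function.Bijective (Polynomial.aeval (R := A) z))
    {ψ : ℬ →+*ᵍ 𝒜} (hψφ : ∀ a : A, ψ (φ a) = a) (hψz : ψ z = 0) (b : B) :
    b - φ (ψ b) ∈ Ideal.span {z} := by
  obtain ⟨P, rfl⟩ := hhat.2 b
  induction P using Polynomial.induction_on' with
  | add P Q hP hQ =>
    simp only [map_add, add_sub_add_comm] at hP hQ ⊢
    exact add_mem hP hQ
  | monomial n a =>
    rw [Polynomial.aeval_monomial, ← hφ]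
    cases n with
    | zero => simp [hψφ]
    | succ n =>
      rw [map_mul, map_pow, hψz, zero_pow (Nat.succ_ne_zero n), mul_zero, map_zero, sub_zero,
        pow_succ, ← mul_assoc]
      exact Ideal.mul_mem_left _ _ (Ideal.mem_span_singleton_self z)

/-- Points of `Proj B` on the hyperplane `z = 0` come from `Proj A`. -/
theorem exists_comap_eq_of_mem (hφ : ∀ a : A, φ a = algebraMap A B a)
    (hhat : Function.Bijective (Polynomial.aeval (R := A) z))
    {ψ : ℬ →+*ᵍ 𝒜} (hψφ : ∀ a : A, ψ (φ a) = a) (hψz : ψ z = 0)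
    (q : ProjectiveSpectrum ℬ) (hq : z ∈ q.asHomogeneousIdeal.toIdeal) :
    ∃ p : ProjectiveSpectrum 𝒜,
      ∀ b, b ∈ q.asHomogeneousIdeal.toIdeal ↔ ψ b ∈ p.asHomogeneousIdeal.toIdeal := by
  classical
  have key : ∀ b, b ∈ q.asHomogeneousIdeal.toIdeal ↔ φ (ψ b) ∈ q.asHomogeneousIdeal.toIdeal := by
    intro b
    have hs : b - φ (ψ b) ∈ q.asHomogeneousIdeal.toIdeal :=
      (Ideal.span_singleton_le_iff_mem _).2 hq (sub_retract_mem_span hφ hhat hψφ hψz b)
    exact ⟨fun h => by simpa using sub_mem h hs, fun h => by simpa using add_mem hs h⟩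
  refine ⟨⟨q.asHomogeneousIdeal.comap φ, q.isPrime.comap φ, fun h => q.not_irrelevant_le fun b hb =>
    (key b).2 (h ?_)⟩, key⟩
  refine (mem_irr_iff 𝒜).2 ?_
  rw [← GradedRingHom.map_directSumDecompose, (mem_irr_iff ℬ).1 hb, map_zero]

end Groth.Agent.EGA2
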