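import Groth.Agent.Lib.EGA2.Graded
import Mathlib.AlgebraicGeometry.ProjectiveSpectrum.Topology

/-!
Relevant homogeneous primes and radicals.
-/

set_option autoImplicit false

universe u

namespace Groth.Agent.EGA2

variable {R A : Type u} [CommRing R] [CommRing A] [Algebra R A]
  (𝒜 : ℕ → Submodule R A) [GradedAlgebra 𝒜]

local notation "S₊" => HomogeneousIdeal.toIdeal (HomogeneousIdeal.irrelevant 𝒜)

/-- An element of `A₊` lying in every relevant homogeneous prime containing the homogeneous ideal `J`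
lies in the radical of `J`. -/
theorem mem_radical_of_forall_mem {J : Ideal A} (hJ : J.IsHomogeneous 𝒜) {x : A} (hx : x ∈ S₊)
    (h : ∀ p : ProjectiveSpectrum 𝒜, J ≤ p.asHomogeneousIdeal.toIdeal →
      x ∈ p.asHomogeneousIdeal.toIdeal) : x ∈ J.radical := by
  rw [Ideal.radical_eq_sInf, Ideal.mem_sInf]
  rintro P ⟨hJP, hP⟩
  have hle : J ≤ (P.homogeneousCore 𝒜).toIdeal := by
    rw [← hJ.toIdeal_homogeneousCore_eq_self]
    exact toIdeal_le_toIdeal_iff.2 (Ideal.homogeneousCore_mono 𝒜 hJP)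
  by_cases hirr : HomogeneousIdeal.irrelevant 𝒜 ≤ P.homogeneousCore 𝒜
  · exact Ideal.toIdeal_homogeneousCore_le 𝒜 P (hirr hx)
  · exact Ideal.toIdeal_homogeneousCore_le 𝒜 P
      (h ⟨P.homogeneousCore 𝒜, hP.homogeneousCore, hirr⟩ hle)

theorem isNilpotent_of_forall_mem {x : A} (hx : x ∈ S₊)
    (h : ∀ p : ProjectiveSpectrum 𝒜, x ∈ p.asHomogeneousIdeal.toIdeal) : IsNilpotent x := by
  have := mem_radical_of_forall_mem 𝒜 (Ideal.IsHomogeneous.bot 𝒜) hx (fun p _ => h p)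
  obtain ⟨n, hn⟩ := this
  exact ⟨n, hn⟩

theorem mem_of_isNilpotent (p : ProjectiveSpectrum 𝒜) {x : A} (hx : IsNilpotent x) :
    x ∈ p.asHomogeneousIdeal.toIdeal := by
  obtain ⟨n, hn⟩ := hx
  exact p.isPrime.mem_of_pow_mem n (hn ▸ zero_mem _)

theorem isEmpty_iff : IsEmpty (ProjectiveSpectrum 𝒜) ↔ ∀ f ∈ S₊, IsNilpotent f := by
  constructor
  · intro h f hf
    exact isNilpotent_of_forall_mem 𝒜 hf fun p => (h.false p).elim
  · intro h
    exact ⟨fun p => p.not_irrelevant_le fun f hf => mem_of_isNilpotent 𝒜 p (h f hf)⟩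

end Groth.Agent.EGA2
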