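import Groth.Agent.Lib.EGA2.Graded

/-!
The Veronese subring `⊕ 𝒜 (n * d)` is a retract of `A` as a module over itself.
-/

set_option autoImplicit false

open DirectSum SetLike

universe u

namespace Groth.Agent.EGA2

variable {R A B : Type u} [CommRing R] [CommRing A] [Algebra R A]
  {𝒜 : ℕ → Submodule R A} [GradedAlgebra 𝒜] [CommRing B] [Algebra R B]
  {ℬ : ℕ → Submodule R B} [GradedAlgebra ℬ] {d : ℕ} {φ : B →ₐ[R] A}

theorem veronese_decompose_eq_zero
    (hdeg : ∀ n : ℕ, Submodule.map φ.toLinearMap (ℬ n) = 𝒜 (n * d)) (b : B) {n : ℕ} (hn : ¬ d ∣ n) :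
    (decompose 𝒜 (φ b) n : A) = 0 := by
  induction b using DirectSum.Decomposition.inductionOn ℬ with
  | zero => simp
  | @homogeneous i x =>
    exact decompose_of_mem_ne 𝒜 ((hdeg i).le (Submodule.mem_map_of_mem x.2))
      fun h => hn (h ▸ Dvd.intro_left i rfl)
  | add x y hx hy => simp [map_add, hx, hy]

theorem veronese_exists_preimage
    (hdeg : ∀ n : ℕ, Submodule.map φ.toLinearMap (ℬ n) = 𝒜 (n * d)) {i : ℕ} (hi : d ∣ i) {a : A}
    (ha : a ∈ 𝒜 i) : ∃ b, φ b = a := by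
  obtain ⟨k, rfl⟩ := hi
  rw [mul_comm, ← hdeg k] at ha
  obtain ⟨b, -, hb⟩ := ha
  exact ⟨b, hb⟩

theorem veronese_exists_retraction_val
    (hdeg : ∀ n : ℕ, Submodule.map φ.toLinearMap (ℬ n) = 𝒜 (n * d)) (a : A) :
    ∃ b : B, ∀ n, d ∣ n → (decompose 𝒜 a n : A) = decompose 𝒜 (φ b) n := by
  induction a using DirectSum.Decomposition.inductionOn 𝒜 with
  | zero => exact ⟨0, fun n _ => by simp⟩
  | @homogeneous i x =>
    by_cases hi : d ∣ i
    · obtain ⟨b, hb⟩ := veronese_exists_preimage hdeg hi x.2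
      exact ⟨b, fun n _ => by rw [hb]⟩
    · exact ⟨0, fun n hn => by
        rw [map_zero, decompose_of_mem_ne 𝒜 x.2 fun h => hi (h ▸ hn)]; simp⟩
  | add x y hx hy =>
    obtain ⟨b, hb⟩ := hx
    obtain ⟨c, hc⟩ := hy
    exact ⟨b + c, fun n hn => by simp [hb n hn, hc n hn]⟩

theorem veronese_retraction_unique (hφ : Function.Injective φ)
    (hdeg : ∀ n : ℕ, Submodule.map φ.toLinearMap (ℬ n) = 𝒜 (n * d)) {a : A} {b c : B}
    (hb : ∀ n, d ∣ n → (decompose 𝒜 a n : A) = decompose 𝒜 (φ b) n)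
    (hc : ∀ n, d ∣ n → (decompose 𝒜 a n : A) = decompose 𝒜 (φ c) n) : b = c := by
  refine hφ ((decompose 𝒜).injective (DFinsupp.ext fun n => Subtype.ext ?_))
  by_cases hn : d ∣ n
  · rw [← hb n hn, hc n hn]
  · rw [veronese_decompose_eq_zero hdeg b hn, veronese_decompose_eq_zero hdeg c hn]

/-- The retraction `A → B` onto a Veronese subring: additive, `B`-linear, left inverse of `φ`. -/
theorem exists_veronese_retraction (hφ : Function.Injective φ)
    (hdeg : ∀ n : ℕ, Submodule.map φ.toLinearMap (ℬ n) = 𝒜 (n * d)) :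
    ∃ π : A →+ B, (∀ b, π (φ b) = b) ∧ ∀ b a, π (φ b * a) = b * π a := by
  choose f hf using veronese_exists_retraction_val (𝒜 := 𝒜) hdeg
  have key : ∀ a b, (∀ n, d ∣ n → (decompose 𝒜 a n : A) = decompose 𝒜 (φ b) n) → f a = b :=
    fun a b h => veronese_retraction_unique hφ hdeg (hf a) h
  refine ⟨AddMonoidHom.mk' f fun x y => key _ _ fun n hn => by simp [hf x n hn, hf y n hn],
    fun b => key _ _ fun n _ => rfl, fun b a => key _ _ ?_⟩
  intro n hn
  rw [AddMonoidHom.mk'_apply, map_mul φ]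
  induction b using DirectSum.Decomposition.inductionOn ℬ with
  | zero => simp
  | @homogeneous i x =>
    have hx : φ (x : B) ∈ 𝒜 (i * d) := (hdeg i).le (Submodule.mem_map_of_mem x.2)
    rw [coe_decompose_mul_of_left_mem 𝒜 n hx, coe_decompose_mul_of_left_mem 𝒜 n hx]
    split
    · rw [hf a _ (Nat.dvd_sub hn (Dvd.intro_left i rfl))]
    · rfl
  | add x y hx hy =>
    simp only [map_add, add_mul, decompose_add, DirectSum.add_apply, Submodule.coe_add, hx, hy]

end Groth.Agent.EGA2
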